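import Groth.Agent.EGA43.ConnCount.Semicont
import Groth.Agent.EGA43.DvrCrit.OpenFlat
import Groth.Agent.H8Lim.NoetherianModel
import Groth.Agent.FlatMorGeomRed.Constr
import Groth.Agent.S2549
import Groth.Agent.S9735

/-!
# Flat proper morphisms of finite presentation: components of geometric fibres (EGA IV 12.2.4 (vi), 15.5.7)
-/

set_option autoImplicit false
set_option backward.isDefEq.respectTransparency false
set_option linter.style.haveILetI false

universe u

open CategoryTheory CategoryTheory.Limits AlgebraicGeometry TopologicalSpace Opposite IsLocalRing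

namespace Groth.Agent.EGA43.ConnCount

open Groth.Agent

variable {X Y : Scheme.{u}} (f : X ⟶ Y) [IsProper f] [Flat f] [LocallyOfFinitePresentation f]

theorem isOpen_geometricallyReduced_locus :
    IsOpen {y : Y | GeometricallyReduced (f.fiberToSpecResidueField y)} := by
  have hopen := Groth.Agent.S2549.result f
  have h1 : {y : Y | GeometricallyReduced (f.fiberToSpecResidueField y)} =
      (f.base '' ({x : X | FBase.IsGeomReducedAt (f.fiberToSpecResidueField (f.base x)) (f.asFiber x)})ᶜ)ᶜ := by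
    ext y
    rw [Set.mem_setOf_eq,
      FlatMorGeomRed.geometricallyReduced_iff_forall (k := Y.residueField y) (f.fiberToSpecResidueField y)]
    constructor
    · rintro h ⟨x, hx, rfl⟩
      exact hx (h _)
    · intro h z
      have key : ∀ (x : X) (y : Y), f x = y →
          FBase.IsGeomReducedAt (f.fiberToSpecResidueField (f x)) (f.asFiber x) →
          ∀ z : f.fiber y, f.fiberι y z = x → FBase.IsGeomReducedAt (f.fiberToSpecResidueField y) z := by
        rintro x _ rfl hx z hz
        rwa [(f.fiberι (f x)).isEmbedding.injective (hz.trans (Scheme.Hom.fiberι_asFiber f x).symm)]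
      have hy : f (f.fiberι y z) = y := (f.range_fiberι y).le ⟨z, rfl⟩
      refine key _ y hy ?_ z rfl
      by_contra hn
      exact h ⟨_, hn, hy⟩
  rw [h1]
  exact (f.isClosedMap _ hopen.isClosed_compl).isOpen_compl

/-- Near each point the morphism comes from a Noetherian one. -/
theorem exists_model_nhd (y : Y) :
    ∃ (B : Scheme.{u}) (_ : IsLocallyNoetherian B) (T : Scheme.{u}) (j : T ⟶ Y) (_ : IsOpenImmersion j) (σ : T ⟶ B)
      (X₀ : Scheme.{u}) (f₀ : X₀ ⟶ B) (_ : IsProper f₀) (_ : Flat f₀) (q : pullback f j ⟶ X₀),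
      y ∈ Set.range j ∧ IsPullback q (pullback.snd f j) f₀ σ := by
  obtain ⟨V, hV, hyV, -⟩ := exists_isAffineOpen_mem_and_subset (x := y) (U := ⊤) trivial
  let j : Spec (CommRingCat.of Γ(Y, V)) ⟶ Y := hV.fromSpec
  haveI : IsOpenImmersion j := inferInstanceAs (IsOpenImmersion hV.fromSpec)
  haveI : LocallyOfFinitePresentation (pullback.snd f j) :=
    MorphismProperty.pullback_snd (P := @LocallyOfFinitePresentation) _ _ inferInstance
  obtain ⟨s, X₀, f₀, q, -, hp, hfl, sq⟩ := H8Lim.exists_noetherian_model_proper_flat (pullback.snd f j)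
  exact ⟨Spec (CommRingCat.of (H8Lim.fgSub Γ(Y, V) s)), inferInstance, _, j, inferInstance, _, X₀, f₀, hp, hfl, q,
    hV.range_fromSpec.ge hyV, sq⟩

theorem lowerSemicontinuous_count_flat : LowerSemicontinuous (fun z : Y => MoreMor.nGeomConnComp f z) := by
  intro y c hc
  obtain ⟨B, _, T, j, _, σ, X₀, f₀, _, _, q, ⟨p, rfl⟩, sq⟩ := exists_model_nhd f y
  haveI : LocallyOfFinitePresentation f₀ := inferInstance
  have hn : ∀ t, MoreMor.nGeomConnComp f (j t) = MoreMor.nGeomConnComp f₀ (σ t) := fun t =>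
    ((FlatMorGeomIrr.counts_baseChange f (pullback.snd f j) _ j (IsPullback.of_hasPullback f j) t).2.symm.trans
      (FlatMorGeomIrr.counts_baseChange f₀ (pullback.snd f j) q σ sq t).2)
  obtain ⟨W, hW, hWle⟩ := count_le_nhd f₀ (σ p) fun x _ => DvrCrit.isUnivOpenAt_of_universallyOpen f₀ x
  refine Filter.eventually_of_mem (j.isOpenEmbedding.isOpenMap.image_mem_nhds
    (σ.continuous.continuousAt.preimage_mem_nhds hW)) ?_
  rintro _ ⟨t, ht, rfl⟩
  exact lt_of_lt_of_le hc (show MoreMor.nGeomConnComp f (j p) ≤ MoreMor.nGeomConnComp f (j t) by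
    rw [hn p, hn t]; exact hWle _ ht)

theorem count_const_nhd_flat (y : Y) (hred : GeometricallyReduced (f.fiberToSpecResidueField y)) :
    ∃ V ∈ nhds y, ∀ z ∈ V, MoreMor.nGeomConnComp f z = MoreMor.nGeomConnComp f y := by
  obtain ⟨B, _, T, j, _, σ, X₀, f₀, _, _, q, ⟨p, rfl⟩, sq⟩ := exists_model_nhd f y
  haveI : LocallyOfFinitePresentation f₀ := inferInstance
  have hn : ∀ t, MoreMor.nGeomConnComp f (j t) = MoreMor.nGeomConnComp f₀ (σ t) := fun t =>
    ((FlatMorGeomIrr.counts_baseChange f (pullback.snd f j) _ j (IsPullback.of_hasPullback f j) t).2.symm.trans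
      (FlatMorGeomIrr.counts_baseChange f₀ (pullback.snd f j) q σ sq t).2)
  have h1 : p ∈ {t : T | GeometricallyReduced ((pullback.snd f j).fiberToSpecResidueField t)} := by
    rw [Groth.Agent.S9735.result f j (pullback.snd f j) _ (IsPullback.of_hasPullback f j)]
    exact hred
  rw [Groth.Agent.S9735.result f₀ σ (pullback.snd f j) q sq] at h1
  obtain ⟨W, hW, hWeq⟩ := count_const_nhd f₀ (σ p)
    (fun x _ => DvrCrit.isUnivOpenAt_of_universallyOpen f₀ x) h1
  refine ⟨_, j.isOpenEmbedding.isOpenMap.image_mem_nhds (σ.continuous.continuousAt.preimage_mem_nhds hW), ?_⟩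
  rintro _ ⟨t, ht, rfl⟩
  rw [hn t, hn p]
  exact hWeq _ ht

end Groth.Agent.EGA43.ConnCount
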