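import Mathlib

/-!
# Complements of nowhere dense sets with connected generizations (EGA IV 15.6.1)
-/

set_option autoImplicit false

universe u

open TopologicalSpace

namespace Groth.Agent.EGA43.ConnCount

variable {X : Type u} [TopologicalSpace X] [QuasiSober X]

omit [QuasiSober X] in
theorem exists_noetherian_nhd (hloc : ∀ x : X, ∃ U ∈ nhds x, NoetherianSpace ↥U) (x : X) :
    ∃ U : Set X, IsOpen U ∧ x ∈ U ∧ NoetherianSpace ↥U := by
  obtain ⟨U, hU, hN⟩ := hloc x
  obtain ⟨V, hVU, hV, hxV⟩ := mem_nhds_iff.1 hU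
  haveI := hN
  exact ⟨V, hV, hxV, (Topology.IsEmbedding.inclusion hVU).isInducing.noetherianSpace⟩

theorem exists_mem_specializes_of_mem_closure (hloc : ∀ x : X, ∃ U ∈ nhds x, NoetherianSpace ↥U)
    {A : Set X} (hA : IsOpen A) {x : X} (hx : x ∈ closure A) : ∃ z ∈ A, z ⤳ x := by
  obtain ⟨U, hU, hxU, hN⟩ := exists_noetherian_nhd hloc x
  let W : Set X := A ∩ U
  have hW : IsOpen W := hA.inter hU
  haveI := hN
  haveI : NoetherianSpace ↥W := (Topology.IsEmbedding.inclusion (Set.inter_subset_right : W ⊆ U)).isInducing.noetherianSpace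
  let I := {s : Set X | ∃ C ∈ irreducibleComponents ↥W, closure (Subtype.val '' C) = s}
  have hI : I.Finite := NoetherianSpace.finite_irreducibleComponents.image _
  have hcov : closure W ⊆ ⋃₀ I := by
    refine closure_minimal (fun w hw => ?_) (Set.Finite.isClosed_biUnion hI (f := fun s => s) ?_ |> fun h => by
      rwa [Set.sUnion_eq_biUnion])
    · exact ⟨_, ⟨irreducibleComponent (⟨w, hw⟩ : ↥W), irreducibleComponent_mem_irreducibleComponents _, rfl⟩,
        subset_closure ⟨_, mem_irreducibleComponent, rfl⟩⟩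
    · rintro _ ⟨C, -, rfl⟩
      exact isClosed_closure
  obtain ⟨_, ⟨C, hC, rfl⟩, hxC⟩ := hcov (closure_inter_open_of_mem hA hU hx hxU)
  have hirr : IsIrreducible (closure (Subtype.val '' C)) :=
    (hC.1.image _ continuous_subtype_val.continuousOn).closure
  obtain ⟨z, hz⟩ := QuasiSober.sober hirr isClosed_closure
  obtain ⟨c, hc⟩ := hC.1.nonempty
  exact ⟨z, ((hz.mem_open_set_iff hW).2 ⟨c.1, subset_closure ⟨c, hc, rfl⟩, c.2⟩).1, hz.specializes hxC⟩
where
  closure_inter_open_of_mem {A U : Set X} {x : X} (_ : IsOpen A) (hU : IsOpen U) (hx : x ∈ closure A) (hxU : x ∈ U) :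
      x ∈ closure (A ∩ U) := by
    rw [Set.inter_comm]
    exact hU.inter_closure ⟨hxU, hx⟩

theorem exists_maximal_in_closed [T0Space X] (hloc : ∀ x : X, ∃ U ∈ nhds x, NoetherianSpace ↥U)
    {T : Set X} (hT : IsClosed T) {x : X} (hx : x ∈ T) : ∃ z ∈ T, z ⤳ x ∧ ∀ v ∈ T, v ⤳ z → v = z := by
  obtain ⟨U, hU, hxU, hN⟩ := exists_noetherian_nhd hloc x
  let S : Set X := T ∩ U
  let x' : ↥S := ⟨x, hx, hxU⟩
  let C := irreducibleComponent x'
  have hC := irreducibleComponent_mem_irreducibleComponents x'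
  have hirr : IsIrreducible (closure (Subtype.val '' C)) :=
    (hC.1.image _ continuous_subtype_val.continuousOn).closure
  obtain ⟨z, hz⟩ := QuasiSober.sober hirr isClosed_closure
  have hzx : z ⤳ x := hz.specializes (subset_closure ⟨x', mem_irreducibleComponent, rfl⟩)
  have hzT : z ∈ T := closure_minimal (by rintro _ ⟨c, -, rfl⟩; exact c.2.1) hT hz.mem
  refine ⟨z, hzT, hzx, fun v hv hvz => ?_⟩
  have hzU : z ∈ U := hzx.mem_open hU hxU
  let v' : ↥S := ⟨v, hv, hvz.mem_open hU hzU⟩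
  have hsub : C ⊆ closure {v'} := fun c hc => by
    rw [← specializes_iff_mem_closure, ← Topology.IsInducing.subtypeVal.specializes_iff]
    exact hvz.trans (hz.specializes (subset_closure ⟨c, hc, rfl⟩))
  have hvC : v' ∈ C := hC.2 isIrreducible_singleton.closure hsub (subset_closure rfl)
  exact (hvz.antisymm (hz.specializes (subset_closure ⟨v', hvC, rfl⟩))).eq

theorem isConnected_compl [T0Space X] (hloc : ∀ x : X, ∃ U ∈ nhds x, NoetherianSpace ↥U) [ConnectedSpace X]
    (Z : Set X) (hZ : IsClosed Z) (hZn : IsNowhereDense Z)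
    (hgen : ∀ x ∈ Z, IsPreconnected ({x' : X | x' ⤳ x} \ {x})) :
    IsConnected Zᶜ := by
  have hd : Dense Zᶜ := (isClosed_isNowhereDense_iff_compl.1 ⟨hZ, hZn⟩).2
  refine ⟨hd.nonempty, fun A B hA hB hcov hAne hBne => ?_⟩
  by_contra hAB
  have hdisj : ∀ w ∈ Zᶜ, w ∈ A → w ∉ B := fun w hw ha hb => hAB ⟨w, hw, ha, hb⟩
  let A' := Zᶜ ∩ A
  let B' := Zᶜ ∩ B
  have hA' : IsOpen A' := hZ.isOpen_compl.inter hA
  have hB' : IsOpen B' := hZ.isOpen_compl.inter hB
  have huniv : closure A' ∪ closure B' = Set.univ := by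
    rw [← closure_union]
    refine Set.eq_univ_of_univ_subset fun w _ => closure_mono (fun v hv => ?_) (hd w)
    exact (hcov hv).imp (fun h => ⟨hv, h⟩) (fun h => ⟨hv, h⟩)
  obtain ⟨x, -, hxA, hxB⟩ := isPreconnected_closed_iff.1 PreconnectedSpace.isPreconnected_univ
    (closure A') (closure B') isClosed_closure isClosed_closure huniv.ge
    (hAne.mono fun w hw => ⟨trivial, subset_closure hw⟩) (hBne.mono fun w hw => ⟨trivial, subset_closure hw⟩)
  obtain ⟨z, ⟨hzA, hzB⟩, -, hzmax⟩ := exists_maximal_in_closed hloc (isClosed_closure.inter isClosed_closure)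
    (⟨hxA, hxB⟩ : x ∈ closure A' ∩ closure B')
  have hzZ : z ∈ Z := by
    by_contra hz
    rcases hcov hz with h | h
    · obtain ⟨v, hv, hvB⟩ := mem_closure_iff.1 hzB A' hA' ⟨hz, h⟩
      exact hdisj v hv.1 hv.2 hvB.2
    · obtain ⟨v, hv, hvA⟩ := mem_closure_iff.1 hzA B' hB' ⟨hz, h⟩
      exact hdisj v hv.1 hvA.2 hv.2
  obtain ⟨a, haA, haz⟩ := exists_mem_specializes_of_mem_closure hloc hA' hzA
  obtain ⟨b, hbB, hbz⟩ := exists_mem_specializes_of_mem_closure hloc hB' hzB
  obtain ⟨w, ⟨hwz, hwne⟩, hwA, hwB⟩ := isPreconnected_closed_iff.1 (hgen z hzZ) (closure A') (closure B')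
    isClosed_closure isClosed_closure (fun w _ => huniv.ge trivial)
    ⟨a, ⟨haz, fun h : a = z => haA.1 (h ▸ hzZ)⟩, subset_closure haA⟩
    ⟨b, ⟨hbz, fun h : b = z => hbB.1 (h ▸ hzZ)⟩, subset_closure hbB⟩
  exact hwne (hzmax w ⟨hwA, hwB⟩ hwz)

end Groth.Agent.EGA43.ConnCount
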