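import Groth.Agent.EGA43.ConnCount.QuasiFinite
import Groth.Agent.H8Lim.MaxPoints
import Groth.Agent.FlatMorGeom.GeomFibreBound
import Groth.Agent.EGA43.DvrCrit.OpenFlat
import Groth.Agent.S1454

/-!
# Irreducible components of a quasi-finite morphism with constant number of geometric points (EGA IV 15.5.3)
-/

set_option autoImplicit false
set_option backward.isDefEq.respectTransparency false
set_option linter.style.haveILetI false

universe u

open CategoryTheory CategoryTheory.Limits AlgebraicGeometry TopologicalSpace Opposite IsLocalRing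

namespace Groth.Agent.EGA43.ConnCount

open Groth.Agent

variable {X Y : Scheme.{u}}

theorem card_connectedComponents_discrete {T : Type u} [TopologicalSpace T] [DiscreteTopology T] :
    ENat.card (_root_.ConnectedComponents T) = ENat.card T :=
  (ENat.card_congr (Equiv.ofBijective ConnectedComponents.mk
    ⟨fun a b h => by simpa [ConnectedComponents.coe_eq_coe', connectedComponent_eq_singleton] using h,
      ConnectedComponents.surjective_coe⟩)).symm

/-- The count of a closed piece, inside the geometric fibre. -/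
theorem count_closed_eq_encard (f : X ⟶ Y) [LocallyQuasiFinite f] {Z : Scheme.{u}} (i : Z ⟶ X) [IsClosedImmersion i]
    {y : Y} {Ω : Type u} [Field Ω] [IsSepClosed Ω] (s : Spec (CommRingCat.of Ω) ⟶ Y) (z : Spec (CommRingCat.of Ω))
    (hs : s z = y) :
    MoreMor.nGeomConnComp (i ≫ f) y = ((pullback.fst f s).base ⁻¹' Set.range i).encard := by
  haveI : DiscreteTopology ↥(pullback (i ≫ f) s) := (IsLocallyArtinian.iff_isLocallyNoetherian_and_discreteTopology.1
    (IsLocallyArtinian.of_locallyQuasiFinite (pullback.snd (i ≫ f) s))).2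
  rw [← (FlatMorGeomIrr.counts_eq_geomFiber (i ≫ f) s z hs).2, card_connectedComponents_discrete]
  let m : pullback (i ≫ f) s ⟶ pullback f s :=
    pullback.lift (pullback.fst _ _ ≫ i) (pullback.snd _ _) (by rw [Category.assoc]; exact pullback.condition)
  have sq : IsPullback m (pullback.fst (i ≫ f) s) (pullback.fst f s) i := by
    refine (IsPullback.of_bot ?_ (pullback.lift_fst _ _ _).symm (IsPullback.of_hasPullback f s)).flip
    rw [pullback.lift_snd]
    exact IsPullback.of_hasPullback _ _
  haveI : IsClosedImmersion m := MorphismProperty.of_isPullback (P := @IsClosedImmersion) sq.flip inferInstance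
  have hr : Set.range m = (pullback.fst f s).base ⁻¹' Set.range i := by
    ext w
    constructor
    · rintro ⟨v, rfl⟩
      exact ⟨_, (congrArg (fun φ : pullback (i ≫ f) s ⟶ X => φ v) sq.w).symm⟩
    · rintro ⟨v, hv⟩
      obtain ⟨r, hr, -⟩ := Scheme.exists_preimage_of_isPullback sq w v hv.symm
      exact ⟨r, hr⟩
  rw [← hr, ← Set.image_univ, m.isClosedEmbedding.injective.injOn.encard_image, Set.encard_univ]

theorem count_eq_encard_univ (f : X ⟶ Y) [LocallyQuasiFinite f]
    {y : Y} {Ω : Type u} [Field Ω] [IsSepClosed Ω] (s : Spec (CommRingCat.of Ω) ⟶ Y) (z : Spec (CommRingCat.of Ω))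
    (hs : s z = y) : MoreMor.nGeomConnComp f y = (Set.univ : Set ↥(pullback f s)).encard := by
  haveI : DiscreteTopology ↥(pullback f s) := (IsLocallyArtinian.iff_isLocallyNoetherian_and_discreteTopology.1
    (IsLocallyArtinian.of_locallyQuasiFinite (pullback.snd f s))).2
  rw [← (FlatMorGeomIrr.counts_eq_geomFiber f s z hs).2, card_connectedComponents_discrete, Set.encard_univ]

theorem eq_of_specializes_fibre (f : X ⟶ Y) [LocallyQuasiFinite f] {a b : X} (h : a ⤳ b) (he : f a = f b) : a = b := by
  haveI : LocallyQuasiFinite (f.fiberToSpecResidueField (f b)) :=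
    MorphismProperty.pullback_snd (P := @LocallyQuasiFinite) _ _ inferInstance
  haveI : DiscreteTopology ↥(f.fiber (f b)) := (IsLocallyArtinian.iff_isLocallyNoetherian_and_discreteTopology.1
    (IsLocallyArtinian.of_locallyQuasiFinite (f.fiberToSpecResidueField (f b)))).2
  obtain ⟨a', rfl⟩ : a ∈ Set.range (f.fiberι (f b)) := (f.range_fiberι (f b)).ge he
  have hsp : a' ⤳ f.asFiber b := by
    rw [← (f.fiberι (f b)).isEmbedding.isInducing.specializes_iff, f.fiberι_asFiber]
    exact h
  rw [hsp.eq, f.fiberι_asFiber]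

/-- Restrictions to closed sets whose maximal points are maximal in `X`. -/
theorem universallyOpen_of_closed [IsLocallyNoetherian Y]
    (hY : ∀ y : Y, CAlg2.IsGeomUnibranch (Y.presheaf.stalk y)) (f : X ⟶ Y) [LocallyQuasiFinite f]
    [LocallyOfFiniteType f] [UniversallyOpen f] (C : Closeds X)
    (hC : ∀ w ∈ C, (∀ v ∈ C, v ⤳ w → v = w) → H8Lim.IsMaxPt w) :
    UniversallyOpen ((Scheme.IdealSheafData.vanishingIdeal C).subschemeι ≫ f) := by
  let i := (Scheme.IdealSheafData.vanishingIdeal C).subschemeι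
  have hi : Set.range i = (C : Set X) := by rw [Scheme.IdealSheafData.range_subschemeι]; rfl
  refine Groth.Agent.S1454.result (i ≫ f) hY fun Z hZ w hw => ?_
  have hmax : H8Lim.IsMaxPt (i w) := by
    refine hC _ (hi.le ⟨w, rfl⟩) fun v hv hvw => ?_
    obtain ⟨v', rfl⟩ := hi.ge hv
    have h1 : v' ⤳ w := i.isEmbedding.isInducing.specializes_iff.1 hvw
    have h2 : Z ⊆ closure {v'} := by rw [← hw.def]; exact specializes_iff_closure_subset.1 h1
    exact congrArg i (h1.antisymm (hw.specializes ((hZ.2 isIrreducible_singleton.closure h2) (subset_closure rfl)))).eq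
  have hfmax : ∀ v : Y, v ⤳ (i ≫ f) w → v = (i ≫ f) w := fun v hv => by
    obtain ⟨u, hu, huv⟩ := H8ProCons.exists_generization_of_isOpenAt f
      (fun U hU => IsOpenMap.image_mem_nhds f.isOpenMap hU) (show v ⤳ f (i w) from hv)
    rw [← huv, hmax u hu]
    rfl
  refine ⟨closure {(i ≫ f) w}, ⟨isIrreducible_singleton.closure, fun S hS hle => ?_⟩, rfl⟩
  have hgp := hS.closure.isGenericPoint_genericPoint isClosed_closure
  have h1 : hS.closure.genericPoint = (i ≫ f) w :=
    hfmax _ (hgp.specializes (subset_closure (hle (subset_closure rfl))))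
  intro v hv
  rw [← specializes_iff_mem_closure, ← h1]
  exact hgp.specializes (subset_closure hv)

/-- EGA IV 15.5.3. -/
theorem components_disjoint [IsLocallyNoetherian Y]
    (hY : ∀ y : Y, CAlg2.IsGeomUnibranch (Y.presheaf.stalk y)) (f : X ⟶ Y)
    [IsSeparated f] [LocallyQuasiFinite f] [LocallyOfFiniteType f] [QuasiCompact f] [UniversallyOpen f]
    (hn : IsLocallyConstant (fun z : Y => MoreMor.nGeomConnComp f z)) (Z Z' : Set X)
    (hZ : Z ∈ irreducibleComponents (X : Type u)) (hZ' : Z' ∈ irreducibleComponents (X : Type u)) (hne : Z ≠ Z') :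
    Disjoint Z Z' := by
  haveI : IsLocallyNoetherian X := LocallyOfFiniteType.isLocallyNoetherian f
  refine Set.disjoint_left.2 fun x hxZ hxZ' => ?_
  have hZc : IsClosed Z := isClosed_of_mem_irreducibleComponents Z hZ
  let C₁ : Closeds X := ⟨Z, hZc⟩
  let C₂ : Closeds X := ⟨closure Zᶜ, isClosed_closure⟩
  have hgp := hZ.1.isGenericPoint_genericPoint hZc
  have hC₁ : ∀ w ∈ C₁, (∀ v ∈ C₁, v ⤳ w → v = w) → H8Lim.IsMaxPt w := fun w hw hmin => by
    rw [← hmin _ hgp.mem (hgp.specializes hw)]
    intro v hv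
    have h1 : Z ⊆ closure {v} := fun t ht => (hv.trans (hgp.specializes ht)).mem_closure
    exact (hv.antisymm (hgp.specializes ((hZ.2 isIrreducible_singleton.closure h1) (subset_closure rfl)))).eq
  have hout : ∀ w ∈ C₂, ∃ ξ, H8Lim.IsMaxPt ξ ∧ ξ ∉ Z ∧ ξ ⤳ w := fun w hw => by
    obtain ⟨t, ht, htw⟩ := ProperDvr.exists_specializes_of_mem_closure
      (DimFormula.isLocallyConstructible_of_isOpen hZc.isOpen_compl) hw
    obtain ⟨ξ, hξ, hξt⟩ := H8Lim.exists_isMaxPt_specializes t
    exact ⟨ξ, hξ, fun h => ht (hξt.mem_closed hZc h), hξt.trans htw⟩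
  have hC₂ : ∀ w ∈ C₂, (∀ v ∈ C₂, v ⤳ w → v = w) → H8Lim.IsMaxPt w := fun w hw hmin => by
    obtain ⟨ξ, hξ, hξZ, hξw⟩ := hout w hw
    rw [← hmin ξ (subset_closure hξZ) hξw]
    exact hξ
  have hx₂ : x ∈ C₂ := by
    have hd : Z' ⊆ closure Zᶜ := by
      have hgp' := hZ'.1.isGenericPoint_genericPoint (isClosed_of_mem_irreducibleComponents Z' hZ')
      have hg : hZ'.1.genericPoint ∉ Z := fun h => by
        have hsub : Z' ⊆ Z := fun t ht => (hgp'.specializes ht).mem_closed hZc h
        exact hne (Set.Subset.antisymm (hZ'.2 hZ.1 hsub) hsub)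
      exact fun t ht => (hgp'.specializes ht).mem_closed isClosed_closure (subset_closure hg)
    exact hd hxZ'
  obtain ⟨η, hη, hηy⟩ := H8Lim.exists_isMaxPt_specializes (f x)
  have hconst : MoreMor.nGeomConnComp f η = MoreMor.nGeomConnComp f (f x) := by
    have hop : IsOpen {z : Y | MoreMor.nGeomConnComp f z = MoreMor.nGeomConnComp f (f x)} :=
      hn.isOpen_fiber (MoreMor.nGeomConnComp f (f x))
    exact hηy.mem_open hop rfl
  let i₁ := (Scheme.IdealSheafData.vanishingIdeal C₁).subschemeι
  let i₂ := (Scheme.IdealSheafData.vanishingIdeal C₂).subschemeι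
  have hi₁ : Set.range i₁ = Z := by rw [Scheme.IdealSheafData.range_subschemeι]; rfl
  have hi₂ : Set.range i₂ = closure Zᶜ := by rw [Scheme.IdealSheafData.range_subschemeι]; rfl
  haveI := universallyOpen_of_closed hY f C₁ hC₁
  haveI := universallyOpen_of_closed hY f C₂ hC₂
  have h1 := qf_count_le_of_specializes (i₁ ≫ f) hηy fun w _ => DvrCrit.isUnivOpenAt_of_universallyOpen (i₁ ≫ f) w
  have h2 := qf_count_le_of_specializes (i₂ ≫ f) hηy fun w _ => DvrCrit.isUnivOpenAt_of_universallyOpen (i₂ ≫ f) w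
  obtain ⟨Ω, _, _, s, z, hs⟩ := FlatMorGeomIrr.exists_algClosed_point η
  obtain ⟨Ω', _, _, s', z', hs'⟩ := FlatMorGeomIrr.exists_algClosed_point (f x)
  rw [count_closed_eq_encard f i₁ s z hs, count_closed_eq_encard f i₁ s' z' hs', hi₁] at h1
  rw [count_closed_eq_encard f i₂ s z hs, count_closed_eq_encard f i₂ s' z' hs', hi₂] at h2
  rw [count_eq_encard_univ f s z hs, count_eq_encard_univ f s' z' hs'] at hconst
  set A := (pullback.fst f s).base ⁻¹' Z
  set B := (pullback.fst f s).base ⁻¹' closure Zᶜ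
  set A' := (pullback.fst f s').base ⁻¹' Z
  set B' := (pullback.fst f s').base ⁻¹' closure Zᶜ
  have hcov : A ∪ B = Set.univ := by
    ext w
    simp only [Set.mem_union, Set.mem_univ, iff_true]
    exact (em (pullback.fst f s w ∈ Z)).imp id (fun h => subset_closure h)
  have hcov' : A' ∪ B' = Set.univ := by
    ext w
    simp only [Set.mem_union, Set.mem_univ, iff_true]
    exact (em (pullback.fst f s' w ∈ Z)).imp id (fun h => subset_closure h)
  have hAB : A ∩ B = ∅ := by
    refine Set.eq_empty_iff_forall_notMem.2 fun w ⟨hwA, hwB⟩ => ?_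
    obtain ⟨ξ, -, hξZ, hξw⟩ := hout _ hwB
    have hfw : f (pullback.fst f s w) = η := by
      rw [show f (pullback.fst f s w) = s (pullback.snd f s w) from
        congrArg (fun φ : pullback f s ⟶ Y => φ w) pullback.condition, ← hs]
      exact congrArg s (Subsingleton.elim (α := PrimeSpectrum Ω) _ _)
    have hfξ : f ξ = η := hη _ (hfw ▸ hξw.map f.continuous)
    exact hξZ ((eq_of_specializes_fibre f hξw (hfξ.trans hfw.symm)) ▸ hwA)
  obtain ⟨w', hw', -⟩ := Scheme.Pullback.exists_preimage_pullback (f := f) (g := s') x z' hs'.symm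
  have hAB' : (A' ∩ B').Nonempty := ⟨w', show _ ∈ Z from hw'.symm ▸ hxZ, show _ ∈ closure Zᶜ from hw'.symm ▸ hx₂⟩
  haveI : Finite ↥(pullback f s) := by
    refine Set.finite_univ_iff.1 (((pullback.snd f s).finite_preimage_singleton (closedPoint Ω)).subset ?_)
    intro w _
    exact Subsingleton.elim (α := PrimeSpectrum Ω) _ _
  have e1 := Set.encard_union_add_encard_inter A B
  have e2 := Set.encard_union_add_encard_inter A' B'
  rw [hcov, hAB, Set.encard_empty, add_zero] at e1
  rw [hcov'] at e2
  have hpos : 1 ≤ (A' ∩ B').encard := Set.one_le_encard_iff_nonempty.2 hAB'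
  have hfin : (Set.univ : Set ↥(pullback f s)).encard ≠ ⊤ := Set.encard_ne_top_iff.2 Set.finite_univ
  have : (Set.univ : Set ↥(pullback f s)).encard + 1 ≤ (Set.univ : Set ↥(pullback f s)).encard :=
    calc _ ≤ (Set.univ : Set ↥(pullback f s')).encard + (A' ∩ B').encard := by rw [hconst]; gcongr
      _ = A'.encard + B'.encard := e2
      _ ≤ A.encard + B.encard := add_le_add h1 h2
      _ = _ := e1.symm
  exact absurd ((ENat.add_one_le_iff hfin).1 this) (lt_irrefl _)

end Groth.Agent.EGA43.ConnCount
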