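import Groth.Agent.EGA43.ProperDvr.FlatDvr
import Groth.Agent.EGA43.DvrFlat.Basic
import Groth.Agent.FlatMorDVR.Connected
import Groth.Agent.FlatMorGeomIrr.GeomFibre
import Groth.Agent.H8Lim.GeomConnected
import Groth.Agent.Et18.ProperClopen.Apps
import Groth.Agent.CAlgMisc2.LocalFinite
import Groth.Agent.FlatMor12.RelDimComp
import Groth.Agent.SGA3cLib.ArtinComponent

/-!
# Counting connected components of geometric fibres over a discrete valuation ring (EGA IV 15.5)
-/

set_option autoImplicit false
set_option backward.isDefEq.respectTransparency false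
set_option linter.style.haveILetI false

universe u

open CategoryTheory CategoryTheory.Limits AlgebraicGeometry TopologicalSpace Opposite IsLocalRing

namespace Groth.Agent.EGA43.ConnCount

open Groth.Agent

/-- A closed immersion of the spectrum of a field computes the fibre. -/
theorem exists_iso_fiber {X Y : Scheme.{u}} (f : X ⟶ Y) (y : Y) {F : Type u} [Field F]
    (k : Spec (CommRingCat.of F) ⟶ Y) [IsClosedImmersion k] (hk : k (closedPoint F) = y) :
    Nonempty (pullback f k ≅ f.fiber y) := by
  obtain ⟨φ, rfl⟩ := ProperDvr.exists_factor k y hk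
  haveI : IsClosedImmersion (Spec.map φ) := IsClosedImmersion.of_comp _ (Y.fromSpecResidueField y)
  haveI : IsIso (Spec.map φ) := by
    haveI : Surjective (Spec.map φ) := ⟨fun t => ⟨closedPoint F, Subsingleton.elim (α := PrimeSpectrum (Y.residueField y)) _ _⟩⟩
    exact isIso_of_isClosedImmersion_of_surjective (Spec.map φ)
  let e := (IsPullback.of_hasPullback (f.fiberToSpecResidueField y) (Spec.map φ)).paste_horiz
    (IsPullback.of_hasPullback f (Y.fromSpecResidueField y))
  exact ⟨e.isoPullback.symm ≪≫ asIso (pullback.fst (f.fiberToSpecResidueField y) (Spec.map φ))⟩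

variable {A : Type u} [CommRing A] [IsDomain A] [IsDiscreteValuationRing A]

variable (A) in
noncomputable abbrev sres : Spec (CommRingCat.of (ResidueField A)) ⟶ Spec (CommRingCat.of A) :=
  Spec.map (CommRingCat.ofHom (residue A))

theorem preimage_zeroLocus {X : Scheme.{u}} (q : X ⟶ Spec (CommRingCat.of A)) :
    q.base ⁻¹' (PrimeSpectrum.zeroLocus (maximalIdeal A : Set A) : Set ↥(Spec (CommRingCat.of A))) =
      q.base ⁻¹' {closedPoint A} := by
  congr 1
  ext p
  constructor
  · intro h
    exact PrimeSpectrum.ext
      ((maximalIdeal.isMaximal A).eq_of_le (PrimeSpectrum.isPrime (p : PrimeSpectrum A)).ne_top h).symm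
  · intro h
    show (maximalIdeal A : Set A) ⊆ ((p : PrimeSpectrum A).asIdeal : Set A)
    rw [show p = closedPoint A from h]
    exact subset_rfl

section Complete

variable [IsAdicComplete (maximalIdeal A) A] [IsAlgClosed (ResidueField A)]
  {X : Scheme.{u}} (q : X ⟶ Spec (CommRingCat.of A)) [IsProper q]

/-- The components of the whole are those of the geometric closed fibre. -/
theorem card_components_eq : ENat.card (_root_.ConnectedComponents X) = MoreMor.nGeomConnComp q (closedPoint A) := by
  let i := pullback.fst q (sres A)
  haveI : IsClosedImmersion (sres A) := IsClosedImmersion.spec_of_surjective _ IsLocalRing.residue_surjective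
  haveI : CompactSpace X := QuasiCompact.compactSpace_of_compactSpace q
  haveI : CompactSpace ↥(pullback q (sres A)) := QuasiCompact.compactSpace_of_compactSpace i
  haveI : QuasiSeparatedSpace X := quasiSeparatedSpace_of_quasiSeparated q
  haveI : QuasiSeparatedSpace ↥(pullback q (sres A)) := quasiSeparatedSpace_of_quasiSeparated i
  have hr : Set.range i = q.base ⁻¹' (PrimeSpectrum.zeroLocus (maximalIdeal A : Set A) : Set ↥(Spec (CommRingCat.of A))) := by
    rw [preimage_zeroLocus, Scheme.Pullback.range_fst]
    congr 1
    exact ProperDvr.range_specMap_residue A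
  have hb := Et18.ProperClopen.bijective_connectedComponentsMap (maximalIdeal A) q i
    i.isClosedEmbedding hr
  rw [← (FlatMorGeomIrr.counts_eq_geomFiber q (sres A) (closedPoint (ResidueField A))
    ((ProperDvr.range_specMap_residue A).le ⟨_, rfl⟩)).2]
  exact (ENat.card_congr (Equiv.ofBijective _ hb)).symm

variable (A) in
noncomputable abbrev sgen : Spec (CommRingCat.of (AlgebraicClosure (FractionRing A))) ⟶ Spec (CommRingCat.of A) :=
  Spec.map (CommRingCat.ofHom ((algebraMap (FractionRing A) (AlgebraicClosure (FractionRing A))).comp
    (algebraMap A (FractionRing A))))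

omit [IsAdicComplete (maximalIdeal A) A] [IsAlgClosed (ResidueField A)] [IsProper q] in
theorem sgen_apply (t : ↥(Spec (CommRingCat.of (AlgebraicClosure (FractionRing A))))) :
    sgen A t = genericPoint (Spec (CommRingCat.of A)) := by
  rw [ProperDvr.genericPoint_spec_eq]
  refine PrimeSpectrum.ext ?_
  show Ideal.comap _ (t : PrimeSpectrum (AlgebraicClosure (FractionRing A))).asIdeal = ⊥
  rw [((t : PrimeSpectrum (AlgebraicClosure (FractionRing A))).asIdeal.eq_bot_or_top).resolve_right
    (PrimeSpectrum.isPrime _).ne_top]
  show RingHom.ker ((algebraMap (FractionRing A) (AlgebraicClosure (FractionRing A))).comp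
    (algebraMap A (FractionRing A))) = ⊥
  exact (RingHom.injective_iff_ker_eq_bot _).1
    ((algebraMap (FractionRing A) (AlgebraicClosure (FractionRing A))).injective.comp
      (IsFractionRing.injective A (FractionRing A)))

omit [IsAdicComplete (maximalIdeal A) A] [IsAlgClosed (ResidueField A)] [IsProper q] in
theorem range_sgen : Set.range (sgen A).base = {genericPoint (Spec (CommRingCat.of A))} := by
  obtain ⟨t⟩ : Nonempty (PrimeSpectrum (AlgebraicClosure (FractionRing A))) := inferInstance
  ext p
  exact ⟨fun ⟨s, hs⟩ => hs ▸ sgen_apply s, fun hp => ⟨t, (sgen_apply t).trans hp.symm⟩⟩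

omit [IsAdicComplete (maximalIdeal A) A] [IsAlgClosed (ResidueField A)] [IsProper q] in
theorem card_geometric_generic :
    ENat.card (_root_.ConnectedComponents ↥(pullback q (sgen A))) =
      MoreMor.nGeomConnComp q (genericPoint (Spec (CommRingCat.of A))) :=
  (FlatMorGeomIrr.counts_eq_geomFiber q (sgen A) (closedPoint _) (sgen_apply _)).2

omit [IsAlgClosed (ResidueField A)] in
/-- Every component meets the closed fibre. -/
theorem exists_mem_component (x : X) : ∃ x' ∈ connectedComponent x, q x' = closedPoint A := by
  obtain ⟨x', hx', h⟩ := ProperDvr.specializes_closed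
    (q.isClosedMap _ isClosed_connectedComponent) ⟨q x, x, mem_connectedComponent, rfl⟩
  exact ⟨x', hx', h⟩

/-- EGA IV 15.5.9 over a complete discrete valuation ring. -/
theorem count_closed_le_generic
    (h : ∀ x, q x = closedPoint A → ∃ z, z ⤳ x ∧ q z = genericPoint (Spec (CommRingCat.of A))) :
    MoreMor.nGeomConnComp q (closedPoint A) ≤ MoreMor.nGeomConnComp q (genericPoint (Spec (CommRingCat.of A))) := by
  rw [← card_components_eq, ← card_geometric_generic]
  let π := pullback.fst q (sgen A)
  have hs : Function.Surjective π.continuous.connectedComponentsMap := by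
    intro c
    obtain ⟨x, rfl⟩ := ConnectedComponents.surjective_coe c
    obtain ⟨x', hx', hqx'⟩ := exists_mem_component q x
    obtain ⟨z, hz, hqz⟩ := h x' hqx'
    obtain ⟨w, hw⟩ : z ∈ Set.range π := by
      rw [Scheme.Pullback.range_fst, range_sgen]
      exact hqz
    refine ⟨ConnectedComponents.mk w, ?_⟩
    show ConnectedComponents.mk (π w) = ConnectedComponents.mk x
    rw [hw, ConnectedComponents.coe_eq_coe, connectedComponent_eq hx']
    exact connectedComponent_eq (isPreconnected_singleton.closure.subset_connectedComponent
      (subset_closure rfl) hz.mem_closure)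
  exact ENat.card_le_card_of_injective (Function.injective_surjInv hs)

end Complete

/-- A proper flat family with connected reduced closed fibre over an algebraically closed field stays
connected over a finite separable extension. -/
theorem preconnected_generic_finite [IsAdicComplete (maximalIdeal A) A] [IsAlgClosed (ResidueField A)]
    {X : Scheme.{u}} (q : X ⟶ Spec (CommRingCat.of A)) [IsProper q] [Flat q] [ConnectedSpace X]
    (hred : IsReduced (q.fiber (closedPoint A)))
    (L : Type u) [Field L] [Algebra A L] [Algebra (FractionRing A) L] [IsScalarTower A (FractionRing A) L]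
    [Module.Finite (FractionRing A) L] [Algebra.IsSeparable (FractionRing A) L] :
    ConnectedSpace ↥(pullback q (Spec.map (CommRingCat.ofHom (algebraMap A L)))) := by
  let A' := integralClosure A L
  haveI : Module.Finite A A' := IsIntegralClosure.finite A (FractionRing A) L A'
  haveI : IsFractionRing A' L := IsIntegralClosure.isFractionRing_of_finite_extension A (FractionRing A) L A'
  haveI : IsLocalRing A' := CAlgMisc2.isLocalRing_of_finite_domain_complete (A := A)
  have hinj : Function.Injective (algebraMap A A') := by
    intro a b hab
    have h := congrArg Subtype.val hab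
    simp only [Subalgebra.coe_algebraMap] at h
    rw [IsScalarTower.algebraMap_apply A (FractionRing A) L, IsScalarTower.algebraMap_apply A (FractionRing A) L] at h
    exact IsFractionRing.injective A (FractionRing A) ((algebraMap (FractionRing A) L).injective h)
  have hnf : ¬ IsField A' := fun hf => IsDiscreteValuationRing.not_isField A
    (isField_of_isIntegral_of_isField hinj hf)
  haveI : IsPrincipalIdealRing A' := IsPrincipalIdealRing.of_finite_maximals
    ((Set.finite_singleton (maximalIdeal A')).subset fun I hI => IsLocalRing.eq_maximalIdeal hI)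
  haveI : IsDiscreteValuationRing A' :=
    { not_a_field' := fun h => hnf (isField_iff_maximalIdeal_eq.2 h) }
  let a := Spec.map (CommRingCat.ofHom (algebraMap A A'))
  let q' := pullback.snd q a
  haveI : IsLocalHom (algebraMap A A') := RingHom.IsIntegral.isLocalHom (algebraMap_isIntegral_iff.2 inferInstance) hinj
  -- the closed fibres agree
  have hk : Function.Surjective ((residue A').comp (algebraMap A A')) := by
    have h1 : (residue A').comp (algebraMap A A') = (algebraMap (ResidueField A) (ResidueField A')).comp (residue A) := rfl
    rw [h1, RingHom.coe_comp]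
    exact ((IsAlgClosed.algebraMap_bijective_of_isIntegral (k := ResidueField A) (K := ResidueField A')).2).comp
      IsLocalRing.residue_surjective
  let k := Spec.map (CommRingCat.ofHom ((residue A').comp (algebraMap A A')))
  haveI : IsClosedImmersion k := IsClosedImmersion.spec_of_surjective _ hk
  have hk' : k = sres A' ≫ a := by simp only [k, sres, a, ← Spec.map_comp, CommRingCat.ofHom_comp]
  haveI : IsClosedImmersion (sres A') := IsClosedImmersion.spec_of_surjective _ IsLocalRing.residue_surjective
  have hkc : k (closedPoint (ResidueField A')) = closedPoint A := by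
    rw [hk']
    show a (sres A' (closedPoint (ResidueField A'))) = _
    rw [show sres A' (closedPoint (ResidueField A')) = closedPoint A' from
      (ProperDvr.range_specMap_residue A').le ⟨_, rfl⟩]
    exact IsLocalRing.comap_closedPoint (algebraMap A A')
  obtain ⟨e₁⟩ := exists_iso_fiber q' (closedPoint A') (sres A') ((ProperDvr.range_specMap_residue A').le ⟨_, rfl⟩)
  obtain ⟨e₂⟩ := exists_iso_fiber q (closedPoint A) k hkc
  let p := (IsPullback.of_hasPullback q' (sres A')).paste_horiz (IsPullback.of_hasPullback q a)
  rw [← hk'] at p
  let e : q'.fiber (closedPoint A') ≅ q.fiber (closedPoint A) := e₁.symm ≪≫ p.isoPullback ≪≫ e₂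
  have hred' : IsReduced (q'.fiber (closedPoint A')) := isReduced_of_isOpenImmersion e.hom
  -- the whole stays connected
  have hfib : _root_.IsPreconnected (q.base ⁻¹' {closedPoint A}) := by
    haveI : CompactSpace X := QuasiCompact.compactSpace_of_compactSpace q
    haveI : IsClosedImmersion ((Spec (CommRingCat.of A)).fromSpecResidueField (closedPoint A)) := by
      refine IsClosedImmersion.iff_isPreimmersion.2 ⟨inferInstance, ?_⟩
      rw [Scheme.range_fromSpecResidueField]
      exact (PrimeSpectrum.isClosed_singleton_iff_isMaximal _).2 (maximalIdeal.isMaximal A)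
    haveI : IsClosedImmersion (q.fiberι (closedPoint A)) :=
      MorphismProperty.pullback_fst (P := @IsClosedImmersion) _ _ inferInstance
    haveI : CompactSpace ↥(q.fiber (closedPoint A)) := QuasiCompact.compactSpace_of_compactSpace (q.fiberι (closedPoint A))
    haveI : QuasiSeparatedSpace X := quasiSeparatedSpace_of_quasiSeparated q
    haveI : QuasiSeparatedSpace ↥(q.fiber (closedPoint A)) :=
      quasiSeparatedSpace_of_quasiSeparated (q.fiberι (closedPoint A))
    have hb := Et18.ProperClopen.bijective_connectedComponentsMap (maximalIdeal A) q (q.fiberι (closedPoint A))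
      (q.fiberι (closedPoint A)).isClosedEmbedding
      ((q.range_fiberι _).trans (preimage_zeroLocus q).symm)
    haveI : PreconnectedSpace ↥(q.fiber (closedPoint A)) := by
      rw [preconnectedSpace_iff_connectedComponent]
      intro x
      refine Set.eq_univ_of_forall fun y => ConnectedComponents.coe_eq_coe'.1 (hb.1 (Subsingleton.elim _ _))
    rw [← q.range_fiberι, ← Set.image_univ]
    exact isPreconnected_univ.image _ (q.fiberι _).continuous.continuousOn
  haveI : PreconnectedSpace ↥(q'.fiber (closedPoint A')) := by
    haveI : PreconnectedSpace ↥(q.fiber (closedPoint A)) := ⟨by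
      refine (q.fiberι (closedPoint A)).isEmbedding.isInducing.isPreconnected_image.1 ?_
      rw [Set.image_univ, q.range_fiberι]
      exact hfib⟩
    exact ⟨by
      rw [← e.inv.homeomorph.surjective.range_eq, ← Set.image_univ]
      exact isPreconnected_univ.image _ e.inv.continuous.continuousOn⟩
  haveI : ConnectedSpace ↥(pullback q a) := by
    have hne : ∀ w : ↥(pullback q a), ∃ w' ∈ connectedComponent w, q' w' = closedPoint A' := fun w => by
      obtain ⟨w', hw', h⟩ := ProperDvr.specializes_closed
        (q'.isClosedMap _ isClosed_connectedComponent) ⟨q' w, w, mem_connectedComponent, rfl⟩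
      exact ⟨w', hw', h⟩
    have hpre : _root_.IsPreconnected (q'.base ⁻¹' {closedPoint A'}) := by
      rw [← q'.range_fiberι, ← Set.image_univ]
      exact isPreconnected_univ.image _ (q'.fiberι _).continuous.continuousOn
    haveI : PreconnectedSpace ↥(pullback q a) := by
      rw [preconnectedSpace_iff_connectedComponent]
      refine fun w => Set.eq_univ_of_forall fun v => ?_
      obtain ⟨w', hw', hqw'⟩ := hne w
      obtain ⟨v', hv', hqv'⟩ := hne v
      rw [connectedComponent_eq hw', connectedComponent_eq (hpre.subset_connectedComponent hqw' hqv'),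
        ← connectedComponent_eq hv']
      exact mem_connectedComponent
    obtain ⟨x⟩ : Nonempty X := inferInstance
    haveI : Surjective a := ⟨fun t => by
      obtain ⟨t', ht'⟩ := (algebraMap_isIntegral_iff.2 (inferInstance : Algebra.IsIntegral A A')).comap_surjective hinj t
      exact ⟨t', ht'⟩⟩
    obtain ⟨w, -⟩ := (pullback.fst q a).surjective x
    exact { toPreconnectedSpace := inferInstance, toNonempty := ⟨w⟩ }
  haveI := FlatMorDVR.connectedSpace_generic_fiber q' hred'
  -- identify the generic fibre
  let l := Spec.map (CommRingCat.ofHom (algebraMap A' L))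
  have hl : l ≫ a = Spec.map (CommRingCat.ofHom (algebraMap A L)) := by
    simp only [l, a, ← Spec.map_comp, ← CommRingCat.ofHom_comp, ← IsScalarTower.algebraMap_eq]
  haveI : IsPreimmersion l := IsPreimmersion.of_isLocalization (nonZeroDivisors A')
  have hlr : Set.range l = {(⟨⊥, Ideal.isPrime_bot⟩ : PrimeSpectrum A')} := by
    ext p
    constructor
    · rintro ⟨t, rfl⟩
      refine PrimeSpectrum.ext ?_
      show Ideal.comap (algebraMap A' L) (t : PrimeSpectrum L).asIdeal = ⊥
      rw [((t : PrimeSpectrum L).asIdeal.eq_bot_or_top).resolve_right (PrimeSpectrum.isPrime _).ne_top]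
      exact (RingHom.injective_iff_ker_eq_bot _).1 (IsFractionRing.injective A' L)
    · rintro rfl
      refine ⟨closedPoint L, PrimeSpectrum.ext ?_⟩
      show Ideal.comap (algebraMap A' L) (maximalIdeal L) = ⊥
      rw [maximalIdeal_eq_bot]
      exact (RingHom.injective_iff_ker_eq_bot _).1 (IsFractionRing.injective A' L)
  have hr : Set.range (pullback.fst q' l) = Set.range (q'.fiberι (⟨⊥, Ideal.isPrime_bot⟩ : PrimeSpectrum A')) := by
    rw [Scheme.Pullback.range_fst, q'.range_fiberι, hlr]
  haveI : ConnectedSpace ↥(pullback q' l) := by
    have hc : _root_.IsConnected (Set.range (pullback.fst q' l)) := by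
      rw [hr]
      exact isConnected_range (q'.fiberι _).continuous
    obtain ⟨w, ⟨v, -⟩⟩ := hc.nonempty
    haveI : PreconnectedSpace ↥(pullback q' l) := ⟨by
      refine (pullback.fst q' l).isEmbedding.isInducing.isPreconnected_image.1 ?_
      rw [Set.image_univ]
      exact hc.isPreconnected⟩
    exact { toPreconnectedSpace := inferInstance, toNonempty := ⟨v⟩ }
  let pL := (IsPullback.of_hasPullback q' l).paste_horiz (IsPullback.of_hasPullback q a)
  rw [hl] at pL
  exact pL.isoPullback.hom.homeomorph.surjective.connectedSpace pL.isoPullback.hom.continuous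

section Complete

variable [IsAdicComplete (maximalIdeal A) A] [IsAlgClosed (ResidueField A)]

/-- A connected proper flat family with reduced closed fibre has connected geometric generic fibre. -/
theorem connectedSpace_geometric_generic {X : Scheme.{u}} (q : X ⟶ Spec (CommRingCat.of A)) [IsProper q] [Flat q]
    [ConnectedSpace X] (hred : IsReduced (q.fiber (closedPoint A))) :
    ConnectedSpace ↥(pullback q (sgen A)) := by
  let K := FractionRing A
  let sK := Spec.map (CommRingCat.ofHom (algebraMap A K))
  let f := pullback.snd q sK
  haveI : CompactSpace ↥(pullback q sK) := QuasiCompact.compactSpace_of_compactSpace f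
  haveI : Nonempty ↥(pullback q sK) := by
    obtain ⟨x⟩ : Nonempty X := inferInstance
    obtain ⟨z, -, hz⟩ := Flat.generalizingMap q (genericPoint_specializes (q x))
    obtain ⟨w, -⟩ := Scheme.Pullback.exists_preimage_pullback (f := q) (g := sK) z (closedPoint K)
      (hz.trans (ProperDvr.specMap_frac_apply A K (closedPoint K)).symm)
    exact ⟨w⟩
  have hM : ∀ (M : Type u) [Field M] [Algebra K M] [Module.Finite K M],
      PreconnectedSpace ↥(pullback f (H8Lim.algSpec K M)) := by
    intro M _ _ _
    refine H8Lim.preconnectedSpace_of_finite f (fun L _ _ _ _ => ?_) M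
    letI : Algebra A L := ((algebraMap K L).comp (algebraMap A K)).toAlgebra
    haveI : IsScalarTower A K L := IsScalarTower.of_algebraMap_eq fun _ => rfl
    haveI := preconnected_generic_finite q hred L
    let e := (IsPullback.of_hasPullback f (H8Lim.algSpec K L)).paste_horiz (IsPullback.of_hasPullback q sK)
    have he : H8Lim.algSpec K L ≫ sK = Spec.map (CommRingCat.ofHom (algebraMap A L)) := by
      simp only [H8Lim.algSpec, sK, ← Spec.map_comp, ← CommRingCat.ofHom_comp, ← IsScalarTower.algebraMap_eq]
    rw [he] at e
    exact e.isoPullback.inv.homeomorph.surjective.connectedSpace e.isoPullback.inv.continuous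
  haveI := H8Lim.connectedSpace_pullback_of_finite f hM (AlgebraicClosure K)
  let e := (IsPullback.of_hasPullback f (H8Lim.algSpec K (AlgebraicClosure K))).paste_horiz
    (IsPullback.of_hasPullback q sK)
  have he : H8Lim.algSpec K (AlgebraicClosure K) ≫ sK = sgen A := by
    simp only [H8Lim.algSpec, sK, sgen, K, ← Spec.map_comp, ← CommRingCat.ofHom_comp]
  rw [he] at e
  exact e.isoPullback.hom.homeomorph.surjective.connectedSpace e.isoPullback.hom.continuous

/-- Properness and universal openness along a reduced closed fibre give flatness. -/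
theorem flat_of_reduced_closedFibre {X : Scheme.{u}} (q : X ⟶ Spec (CommRingCat.of A)) [IsProper q]
    (ho : ∀ x, q x = closedPoint A → EGA43.IsOpenAt q.base x)
    (hred : IsReduced (q.fiber (closedPoint A))) : Flat q := by
  refine (Flat.iff_flat_stalkMap q).2 fun x => ?_
  obtain ⟨x', hx', hsp⟩ : ∃ x', q x' = closedPoint A ∧ x ⤳ x' := by
    obtain ⟨x', hx', h⟩ := q.isClosedMap.specializingMap (IsLocalRing.specializes_closedPoint (q x))
    exact ⟨x', h, hx'⟩
  have key : ∀ y, y = closedPoint A → ∀ (w : ↥(q.fiber y)), _root_.IsReduced ((q.fiber y).presheaf.stalk w) := by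
    rintro y rfl w
    haveI := hred
    infer_instance
  have h := (DvrFlat.flat_and_isReduced_of_openAt q x' hx' (fun z _ _ => ho _
    (((q.range_fiberι _).le ⟨z, rfl⟩).trans hx')) (key _ hx' _)).1
  exact FlatMor12.flat_stalkMap_of_specializes q hsp h

/-- EGA IV 15.5.7 over a complete discrete valuation ring. -/
theorem count_generic_le_closed {X : Scheme.{u}} (q : X ⟶ Spec (CommRingCat.of A)) [IsProper q] [Flat q]
    (hred : IsReduced (q.fiber (closedPoint A))) :
    MoreMor.nGeomConnComp q (genericPoint (Spec (CommRingCat.of A))) ≤ MoreMor.nGeomConnComp q (closedPoint A) := by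
  rw [← card_components_eq, ← card_geometric_generic]
  let π := pullback.fst q (sgen A)
  haveI : IsLocallyNoetherian X := LocallyOfFiniteType.isLocallyNoetherian q
  have hinj : Function.Injective π.continuous.connectedComponentsMap := by
    intro c d hcd
    obtain ⟨a, rfl⟩ := ConnectedComponents.surjective_coe c
    obtain ⟨b, rfl⟩ := ConnectedComponents.surjective_coe d
    have hab : π b ∈ connectedComponent (π a) := ConnectedComponents.coe_eq_coe'.1 hcd.symm
    have hopen : IsOpen (connectedComponent (π a)) := SGA3cLib.isOpen_connectedComponent _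
    let W : X.Opens := ⟨connectedComponent (π a), hopen⟩
    haveI : IsClosedImmersion W.ι := IsClosedImmersion.iff_isPreimmersion.2
      ⟨inferInstance, by rw [W.range_ι]; exact isClosed_connectedComponent⟩
    haveI : ConnectedSpace ↥W.toScheme := isConnected_iff_connectedSpace.1 isConnected_connectedComponent
    have hred' : IsReduced ((W.ι ≫ q).fiber (closedPoint A)) := by
      let m : (W.ι ≫ q).fiber (closedPoint A) ⟶ q.fiber (closedPoint A) :=
        pullback.map _ _ q _ W.ι (𝟙 _) (𝟙 _) (by simp) (by simp)
      haveI : IsOpenImmersion m := MorphismProperty.pullbackMap (P := @IsOpenImmersion.{u})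
        (inferInstance : IsOpenImmersion W.ι) (inferInstance : IsOpenImmersion (𝟙 _)) (by simp) (by simp)
      haveI := hred
      exact isReduced_of_isOpenImmersion m
    haveI := connectedSpace_geometric_generic (W.ι ≫ q) hred'
    let m : pullback (W.ι ≫ q) (sgen A) ⟶ pullback q (sgen A) :=
      pullback.lift (pullback.fst _ _ ≫ W.ι) (pullback.snd _ _) (by rw [Category.assoc]; exact pullback.condition)
    have hr : ∀ w, π w ∈ connectedComponent (π a) → w ∈ Set.range m := by
      intro w hw
      obtain ⟨v, hv⟩ := W.range_ι.ge hw
      have sq : IsPullback m (pullback.fst (W.ι ≫ q) (sgen A)) π W.ι := by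
        refine (IsPullback.of_bot ?_ (pullback.lift_fst _ _ _).symm (IsPullback.of_hasPullback q (sgen A))).flip
        rw [pullback.lift_snd]
        exact IsPullback.of_hasPullback _ _
      obtain ⟨r, hr, -⟩ := Scheme.exists_preimage_of_isPullback sq w v hv.symm
      exact ⟨r, hr⟩
    rw [ConnectedComponents.coe_eq_coe']
    exact (isConnected_range m.continuous).isPreconnected.subset_connectedComponent
      (hr b hab) (hr a mem_connectedComponent)
  exact ENat.card_le_card_of_injective hinj

end Complete

end Groth.Agent.EGA43.ConnCount
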