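import Groth.Agent.EGA43.ConnCount.Semicont
import Groth.Agent.EGA43.ProperDvr.Closed
import Groth.Agent.HenselLib.SchemeFinitePart
import Groth.Agent.HenselLib.Local

/-!
# The number of geometric points of quasi-finite separated morphisms (EGA IV 15.5.1, 15.5.2)
-/

set_option autoImplicit false
set_option backward.isDefEq.respectTransparency false
set_option linter.style.haveILetI false

universe u

open CategoryTheory CategoryTheory.Limits AlgebraicGeometry TopologicalSpace Opposite IsLocalRing

namespace Groth.Agent.EGA43.ConnCount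

open Groth.Agent

theorem connectedComponentsMap_injective_of_clopen {α β : Type u} [TopologicalSpace α] [TopologicalSpace β]
    (m : α → β) (hm : Topology.IsEmbedding m) (hr : IsClopen (Set.range m)) :
    Function.Injective hm.continuous.connectedComponentsMap := by
  intro c d hcd
  obtain ⟨a, rfl⟩ := ConnectedComponents.surjective_coe c
  obtain ⟨b, rfl⟩ := ConnectedComponents.surjective_coe d
  have hab : m b ∈ connectedComponent (m a) := ConnectedComponents.coe_eq_coe'.1 hcd.symm
  have hsub : connectedComponent (m a) ⊆ Set.range m := hr.connectedComponent_subset ⟨a, rfl⟩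
  have hpre : _root_.IsPreconnected (m ⁻¹' connectedComponent (m a)) := by
    refine hm.isInducing.isPreconnected_image.1 ?_
    rw [Set.image_preimage_eq_of_subset hsub]
    exact isPreconnected_connectedComponent
  rw [ConnectedComponents.coe_eq_coe']
  exact hpre.subset_connectedComponent hab mem_connectedComponent

section Complete

variable {A : Type u} [CommRing A] [IsDomain A] [IsDiscreteValuationRing A]
  [IsAdicComplete (maximalIdeal A) A] [IsAlgClosed (ResidueField A)]
  {X : Scheme.{u}} (q : X ⟶ Spec (CommRingCat.of A)) [IsSeparated q] [LocallyQuasiFinite q]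
  [LocallyOfFiniteType q] [QuasiCompact q]

/-- EGA IV 15.5.1 and 15.5.2 over a complete discrete valuation ring. -/
theorem qf_count
    (h : ∀ x, q x = closedPoint A → ∃ z, z ⤳ x ∧ q z = genericPoint (Spec (CommRingCat.of A))) :
    MoreMor.nGeomConnComp q (closedPoint A) ≤ MoreMor.nGeomConnComp q (genericPoint (Spec (CommRingCat.of A))) ∧
    (MoreMor.nGeomConnComp q (genericPoint (Spec (CommRingCat.of A))) ≤ MoreMor.nGeomConnComp q (closedPoint A) →
      IsProper q) := by
  haveI : HenselianLocalRing A := { is_henselian := fun p hp a₀ h1 h2 => HenselianRing.is_henselian (I := maximalIdeal A) p hp a₀ h1 (h2.map _) }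
  obtain ⟨W, hWc, hWf, hWs⟩ := HenselLib.SchemeFinite.exists_finitePart q
  haveI := hWf
  haveI : IsClosedImmersion W.ι := IsClosedImmersion.iff_isPreimmersion.2
    ⟨inferInstance, by rw [W.range_ι]; exact hWc⟩
  have hle := count_closed_le_generic (W.ι ≫ q) fun w hw => by
    obtain ⟨z, hz, hzη⟩ := h (W.ι w) hw
    obtain ⟨z', rfl⟩ : z ∈ Set.range W.ι := W.range_ι.ge (hz.mem_open W.isOpen w.2)
    exact ⟨z', W.ι.isEmbedding.isInducing.specializes_iff.1 hz, hzη⟩
  -- the maps of geometric fibres
  have hmap : ∀ {T : Scheme.{u}} (k : T ⟶ Spec (CommRingCat.of A)),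
      ∃ m : pullback (W.ι ≫ q) k ⟶ pullback q k, IsOpenImmersion m ∧ IsClosedImmersion m ∧
        Set.range m = (pullback.fst q k).base ⁻¹' W := by
    intro T k
    let m : pullback (W.ι ≫ q) k ⟶ pullback q k :=
      pullback.lift (pullback.fst _ _ ≫ W.ι) (pullback.snd _ _) (by rw [Category.assoc]; exact pullback.condition)
    have sq : IsPullback m (pullback.fst (W.ι ≫ q) k) (pullback.fst q k) W.ι := by
      refine (IsPullback.of_bot ?_ (pullback.lift_fst _ _ _).symm (IsPullback.of_hasPullback q k)).flip
      rw [pullback.lift_snd]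
      exact IsPullback.of_hasPullback _ _
    refine ⟨m, MorphismProperty.of_isPullback (P := @IsOpenImmersion) sq.flip inferInstance,
      MorphismProperty.of_isPullback (P := @IsClosedImmersion) sq.flip inferInstance, ?_⟩
    ext w
    constructor
    · rintro ⟨v, rfl⟩
      show pullback.fst q k (m v) ∈ W
      rw [show pullback.fst q k (m v) = W.ι (pullback.fst (W.ι ≫ q) k v) from
        congrArg (fun φ : pullback (W.ι ≫ q) k ⟶ X => φ v) sq.w]
      exact (pullback.fst (W.ι ≫ q) k v).2
    · intro hw
      obtain ⟨v, hv⟩ := W.range_ι.ge hw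
      obtain ⟨r, hr, -⟩ := Scheme.exists_preimage_of_isPullback sq w v hv.symm
      exact ⟨r, hr⟩
  have hclosed : MoreMor.nGeomConnComp (W.ι ≫ q) (closedPoint A) = MoreMor.nGeomConnComp q (closedPoint A) := by
    rw [← (FlatMorGeomIrr.counts_eq_geomFiber q (sres A) (closedPoint (ResidueField A))
        ((ProperDvr.range_specMap_residue A).le ⟨_, rfl⟩)).2,
      ← (FlatMorGeomIrr.counts_eq_geomFiber (W.ι ≫ q) (sres A) (closedPoint (ResidueField A))
        ((ProperDvr.range_specMap_residue A).le ⟨_, rfl⟩)).2]
    obtain ⟨m, hmo, -, hmr⟩ := hmap (sres A)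
    haveI := hmo
    haveI : Surjective m := ⟨fun w => hmr.ge (hWs _ (by
      rw [show q (pullback.fst q (sres A) w) = sres A (pullback.snd q (sres A) w) from
        congrArg (fun φ : pullback q (sres A) ⟶ Spec (CommRingCat.of A) => φ w) pullback.condition]
      exact (ProperDvr.range_specMap_residue A).le ⟨_, rfl⟩))⟩
    haveI : IsIso m := by
      haveI : Epi m.base := (TopCat.epi_iff_surjective _).2 m.surjective
      exact IsOpenImmersion.isIso m
    exact (FlatMorGeomIrr.counts_eq_of_iso (asIso m)).2
  obtain ⟨m, hmo, hmc, hmr⟩ := hmap (sgen A)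
  have hclop : IsClopen (Set.range m) :=
    ⟨m.isClosedEmbedding.isClosed_range, hmo.base_open.isOpen_range⟩
  have hinj := connectedComponentsMap_injective_of_clopen m m.isEmbedding hclop
  have hgen : MoreMor.nGeomConnComp (W.ι ≫ q) (genericPoint (Spec (CommRingCat.of A))) ≤
      MoreMor.nGeomConnComp q (genericPoint (Spec (CommRingCat.of A))) := by
    rw [← card_geometric_generic, ← card_geometric_generic]
    exact ENat.card_le_card_of_injective hinj
  refine ⟨hclosed ▸ hle.trans hgen, fun hge => ?_⟩
  have heq : ENat.card (_root_.ConnectedComponents ↥(pullback q (sgen A))) ≤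
      ENat.card (_root_.ConnectedComponents ↥(pullback (W.ι ≫ q) (sgen A))) := by
    rw [card_geometric_generic, card_geometric_generic]
    exact hge.trans (hclosed ▸ hle)
  haveI : Finite ↥(pullback q (sgen A)) := by
    refine Set.finite_univ_iff.1 (((pullback.snd q (sgen A)).finite_preimage_singleton (closedPoint _)).subset ?_)
    intro w _
    exact Subsingleton.elim (α := PrimeSpectrum (AlgebraicClosure (FractionRing A))) _ _
  haveI : Finite (_root_.ConnectedComponents ↥(pullback q (sgen A))) :=
    Finite.of_surjective _ ConnectedComponents.surjective_coe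
  haveI : Finite (_root_.ConnectedComponents ↥(pullback (W.ι ≫ q) (sgen A))) := Finite.of_injective _ hinj
  have hbij := hinj.bijective_of_nat_card_le (by
    rw [ENat.card_eq_coe_natCard, ENat.card_eq_coe_natCard] at heq
    exact_mod_cast heq)
  have hall : ∀ w, w ∈ Set.range m := fun w => by
    obtain ⟨c, hc⟩ := hbij.2 (ConnectedComponents.mk w)
    obtain ⟨v, rfl⟩ := ConnectedComponents.surjective_coe c
    exact hclop.connectedComponent_subset ⟨v, rfl⟩ (ConnectedComponents.coe_eq_coe'.1 hc.symm)
  have hWtop : ∀ x : X, x ∈ W := by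
    intro x
    rcases ProperDvr.eq_closedPoint_or_generic (q x) with hx | hx
    · exact hWs x hx
    · obtain ⟨w, rfl⟩ : x ∈ Set.range (pullback.fst q (sgen A)) := by
        rw [Scheme.Pullback.range_fst, range_sgen]
        exact hx
      exact hmr.le (hall w)
  have hW : W = ⊤ := Opens.ext (Set.eq_univ_of_forall hWtop)
  haveI : IsIso W.ι := by
    rw [hW, ← Scheme.topIso_hom X]
    infer_instance
  haveI : IsProper (W.ι ≫ q) := inferInstance
  rw [← IsIso.inv_hom_id_assoc W.ι q]
  infer_instance

end Complete

variable {X Y : Scheme.{u}}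

theorem exists_generization_bc (f : X ⟶ Y) {C : Type u} [CommRing C] [IsDomain C] [IsDiscreteValuationRing C]
    (g : Spec (CommRingCat.of C) ⟶ Y) (h : ∀ x, f x = g (closedPoint C) → EGA43.IsUnivOpenAt f x)
    (x : ↥(pullback f g)) (hx : pullback.snd f g x = closedPoint C) :
    ∃ z, z ⤳ x ∧ pullback.snd f g z = genericPoint (Spec (CommRingCat.of C)) := by
  refine UnivOpen.exists_generization_of_isUnivOpenAt f (h _ ?_) g rfl (genericPoint_specializes _)
  rw [show f (pullback.fst f g x) = g (pullback.snd f g x) from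
    congrArg (fun φ : pullback f g ⟶ Y => φ x) pullback.condition, hx]

/-- EGA IV 15.5.1, at the level of generizations. -/
theorem qf_count_le_of_specializes [IsLocallyNoetherian Y] (f : X ⟶ Y) [IsSeparated f] [LocallyQuasiFinite f]
    [LocallyOfFiniteType f] [QuasiCompact f] {y y' : Y} (hsp : y' ⤳ y)
    (h : ∀ x, f x = y → EGA43.IsUnivOpenAt f x) :
    MoreMor.nGeomConnComp f y ≤ MoreMor.nGeomConnComp f y' := by
  by_cases hne : y' = y
  · rw [hne]
  obtain ⟨C, _, _, _, _, _, g, hgs, hgη⟩ := exists_completeDvr_of_specializes hsp hne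
  have hc := fun t => (FlatMorGeomIrr.counts_baseChange f (pullback.snd f g) _ g (IsPullback.of_hasPullback f g) t).2
  rw [← hgs, ← hgη, ← hc, ← hc]
  exact (qf_count _ (exists_generization_bc f g (hgs ▸ h))).1

/-- EGA IV 15.5.1. -/
theorem qf_count_le_nhd [IsLocallyNoetherian Y] (f : X ⟶ Y) [IsSeparated f] [LocallyQuasiFinite f]
    [LocallyOfFiniteType f] [QuasiCompact f] (y : Y)
    (h : ∀ x, f x = y → EGA43.IsUnivOpenAt f x) :
    ∃ V ∈ nhds y, ∀ z ∈ V, MoreMor.nGeomConnComp f y ≤ MoreMor.nGeomConnComp f z := by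
  haveI : LocallyOfFinitePresentation f := inferInstance
  exact ⟨_, DimFormula.mem_nhds_of_isLocallyConstructible (isLocallyConstructible_count_ge f _)
    (fun y' hy' => qf_count_le_of_specializes f hy' h), fun z hz => hz⟩

/-- EGA IV 15.5.2: constancy of the number of geometric points gives properness. -/
theorem isProper_nhd_of_count_eq [IsLocallyNoetherian Y] (f : X ⟶ Y) [IsSeparated f] [LocallyQuasiFinite f]
    [LocallyOfFiniteType f] [QuasiCompact f] (y : Y)
    (h : ∀ x, f x = y → EGA43.IsUnivOpenAt f x)
    (hc : ∀ y' : Y, y' ⤳ y → MoreMor.nGeomConnComp f y' = MoreMor.nGeomConnComp f y) :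
    ∃ U : Y.Opens, y ∈ U ∧ IsProper (f ∣_ U) := by
  refine ProperDvr.exists_isProper_of_dvr f y fun ξ _ A _ _ _ K _ _ _ g σ hσ hg _ => ?_
  obtain ⟨C, _, _, _, _, _, φ, -, hφl, hφi, -⟩ := FiniteCrit.exists_completeDvr (residue A) IsLocalRing.ker_residue
  haveI := hφl
  let a : Spec (CommRingCat.of C) ⟶ Spec (CommRingCat.of A) := Spec.map (CommRingCat.ofHom φ)
  have hac : a (closedPoint C) = closedPoint A := IsLocalRing.comap_closedPoint φ
  have han : a (genericPoint (Spec (CommRingCat.of C))) = genericPoint (Spec (CommRingCat.of A)) := by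
    rw [ProperDvr.genericPoint_spec_eq, ProperDvr.genericPoint_spec_eq]
    exact PrimeSpectrum.ext ((RingHom.injective_iff_ker_eq_bot φ).1 hφi)
  haveI : Flat a := by
    refine (HasRingHomProperty.Spec_iff (P := @Flat)).2 ?_
    show φ.Flat
    letI := φ.toAlgebra
    haveI : Module.IsTorsionFree A C := Module.isTorsionFree_iff_algebraMap_injective.2 hφi
    show Module.Flat A C
    infer_instance
  haveI : Surjective a := ⟨fun t => by
    rcases ProperDvr.eq_closedPoint_or_generic t with rfl | rfl
    · exact ⟨_, hac⟩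
    · exact ⟨_, han⟩⟩
  let qC := pullback.snd f (a ≫ g)
  have hgc : (a ≫ g) (closedPoint C) = y := (congrArg g hac).trans hg
  have hgen : (a ≫ g) (genericPoint (Spec (CommRingCat.of C))) ⤳ y :=
    hgc ▸ (genericPoint_specializes _).map (a ≫ g).continuous
  have hb := fun t => (FlatMorGeomIrr.counts_baseChange f qC _ (a ≫ g) (IsPullback.of_hasPullback f (a ≫ g)) t).2
  have hP : IsProper qC := (qf_count qC (exists_generization_bc f (a ≫ g) (hgc ▸ h))).2 (by
    rw [hb, hb, hgc, hc _ hgen])
  haveI : IsProper (pullback.snd f g) := by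
    haveI := Et18.descends_isProper.{u}
    have sq : IsPullback (pullback.lift (pullback.fst f (a ≫ g)) (qC ≫ a) (by rw [Category.assoc]; exact pullback.condition))
        qC (pullback.snd f g) a := by
      refine IsPullback.of_right ?_ (pullback.lift_snd _ _ _) (IsPullback.of_hasPullback f g)
      rw [pullback.lift_fst]
      exact IsPullback.of_hasPullback f (a ≫ g)
    exact MorphismProperty.of_isPullback_of_descendsAlong (P := @IsProper) (Q := Et18.FPQC.{u})
      sq.flip ⟨⟨inferInstance, inferInstance⟩, inferInstance⟩ hP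
  let Sq : ValuativeCommSq (pullback.snd f g) := ValuativeCommSq.mk A K
    (pullback.lift σ (Spec.map (CommRingCat.ofHom (algebraMap A K))) hσ) (𝟙 _)
    ⟨by rw [pullback.lift_snd, Category.comp_id]⟩
  obtain ⟨⟨m⟩⟩ := (UniversallyClosed.eq_valuativeCriterion.le _ _ _
    (inferInstanceAs (UniversallyClosed (pullback.snd f g)))).1 Sq
  obtain ⟨l, hl1, hl2⟩ : ∃ l : Spec (CommRingCat.of A) ⟶ pullback f g,
      Spec.map (CommRingCat.ofHom (algebraMap A K)) ≫ l = pullback.lift σ (Spec.map (CommRingCat.ofHom (algebraMap A K))) hσ ∧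
      l ≫ pullback.snd f g = 𝟙 _ := ⟨m.l, m.fac_left, m.fac_right⟩
  refine ⟨l ≫ pullback.fst f g, ?_, ?_⟩
  · rw [Category.assoc, pullback.condition, ← Category.assoc, hl2, Category.id_comp]
  · rw [← Category.assoc, hl1, pullback.lift_fst]

end Groth.Agent.EGA43.ConnCount
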