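import Groth.Agent.EGA43.ConnCount.QuasiFinite
import Groth.Agent.EGA43.SectionComp.FPModel
import Groth.Agent.EGA43.DvrCrit.OpenFlat
import Groth.Agent.EGA43.Limit.Immersions
import Groth.Agent.H8Lim.Constructible

/-!
# Geometric points of flat quasi-finite separated morphisms over any base (EGA IV 15.5.2, 18.2.9)
-/

set_option autoImplicit false
set_option backward.isDefEq.respectTransparency false
set_option linter.style.haveILetI false

universe u

open CategoryTheory CategoryTheory.Limits AlgebraicGeometry TopologicalSpace Opposite IsLocalRing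

namespace Groth.Agent.EGA43.ConnCount

open Groth.Agent

variable {X Y : Scheme.{u}} (f : X ⟶ Y) [Flat f] [LocallyOfFinitePresentation f] [IsSeparated f]
  [LocallyQuasiFinite f] [QuasiCompact f]

/-- A Noetherian model of the morphism over an affine open of the base. -/
theorem exists_qf_model {R : Type u} [CommRing R] (j : Spec (CommRingCat.of R) ⟶ Y) :
    ∃ (k : (Finset R)ᵒᵖ) (X₀ : Scheme.{u}) (f₀ : X₀ ⟶ (H8Lim.fgSpecDiagram R).obj k) (q : pullback f j ⟶ X₀),
      LocallyOfFinitePresentation f₀ ∧ QuasiCompact f₀ ∧ IsSeparated f₀ ∧ Flat f₀ ∧ LocallyQuasiFinite f₀ ∧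
      IsPullback q (pullback.snd f j) f₀ ((H8Lim.fgSpecCone R).π.app k) := by
  let g := pullback.snd f j
  haveI : LocallyOfFinitePresentation g := MorphismProperty.pullback_snd (P := @LocallyOfFinitePresentation) _ _ inferInstance
  haveI : Flat g := MorphismProperty.pullback_snd (P := @Flat) _ _ inferInstance
  haveI : LocallyQuasiFinite g := MorphismProperty.pullback_snd (P := @LocallyQuasiFinite) _ _ inferInstance
  obtain ⟨k, X₀, f₀, q, h1, h2, h3, sq, hfl, hsep⟩ := SectionComp.exists_model_flatIf g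
  haveI := h1
  haveI : ∀ (i i' : (Finset R)ᵒᵖ) (φ : i ⟶ i'), IsAffineHom ((H8Lim.fgSpecDiagram R).map φ) := fun _ _ _ => inferInstance
  obtain ⟨l, φ, hl⟩ := EGA43.Limit.descends_locallyQuasiFinite (H8Lim.fgSpecDiagram R) (H8Lim.fgSpecCone R)
    (H8Lim.isLimitFgSpecCone R) k f₀ inferInstance q g sq (inferInstance : LocallyQuasiFinite g)
  exact ⟨l, _, pullback.snd f₀ ((H8Lim.fgSpecDiagram R).map φ), _,
    MorphismProperty.pullback_snd (P := @LocallyOfFinitePresentation) _ _ h1,
    MorphismProperty.pullback_snd (P := @QuasiCompact) _ _ h2,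
    MorphismProperty.pullback_snd (P := @IsSeparated) _ _ (hsep inferInstance),
    MorphismProperty.pullback_snd (P := @Flat) _ _ (hfl inferInstance), hl,
    H8Lim.isPullback_later (D := H8Lim.fgSpecDiagram R) (c := H8Lim.fgSpecCone R) sq φ (H8Lim.eq_later sq φ)⟩

theorem lowerSemicontinuous_count : LowerSemicontinuous (fun z : Y => MoreMor.nGeomConnComp f z) := by
  intro y c hc
  obtain ⟨V, hV, hyV, -⟩ := exists_isAffineOpen_mem_and_subset (x := y) (U := ⊤) trivial
  let j : Spec (CommRingCat.of Γ(Y, V)) ⟶ Y := hV.fromSpec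
  haveI : IsOpenImmersion j := inferInstanceAs (IsOpenImmersion hV.fromSpec)
  obtain ⟨p, rfl⟩ : y ∈ Set.range j := hV.range_fromSpec.ge hyV
  obtain ⟨k, X₀, f₀, q, h1, h2, h3, h4, h5, sq⟩ := exists_qf_model f j
  haveI := h1; haveI := h2; haveI := h3; haveI := h4; haveI := h5
  haveI : IsLocallyNoetherian ((H8Lim.fgSpecDiagram Γ(Y, V)).obj k) :=
    inferInstanceAs (IsLocallyNoetherian (Spec (CommRingCat.of (H8Lim.fgSub Γ(Y, V) k.unop))))
  let σ := (H8Lim.fgSpecCone Γ(Y, V)).π.app k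
  have hn : ∀ t, MoreMor.nGeomConnComp f (j t) = MoreMor.nGeomConnComp f₀ (σ t) := fun t =>
    ((FlatMorGeomIrr.counts_baseChange f (pullback.snd f j) _ j (IsPullback.of_hasPullback f j) t).2.symm.trans
      (FlatMorGeomIrr.counts_baseChange f₀ (pullback.snd f j) q σ sq t).2)
  obtain ⟨W, hW, hWle⟩ := qf_count_le_nhd f₀ (σ p) fun x _ => DvrCrit.isUnivOpenAt_of_universallyOpen f₀ x
  refine Filter.eventually_of_mem (j.isOpenEmbedding.isOpenMap.image_mem_nhds
    (σ.continuous.continuousAt.preimage_mem_nhds hW)) ?_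
  rintro _ ⟨t, ht, rfl⟩
  exact lt_of_lt_of_le hc (show MoreMor.nGeomConnComp f (j p) ≤ MoreMor.nGeomConnComp f (j t) by
    rw [hn p, hn t]; exact hWle _ ht)

theorem isProper_nhd_of_count_const (y₀ : Y)
    (hc : ∃ V ∈ nhds y₀, ∀ z ∈ V, MoreMor.nGeomConnComp f z = MoreMor.nGeomConnComp f y₀) :
    ∃ U : Y.Opens, y₀ ∈ U ∧ IsProper (f ∣_ U) := by
  obtain ⟨N, hN, hNc⟩ := hc
  obtain ⟨O, hON, hO, hyO⟩ := mem_nhds_iff.1 hN
  obtain ⟨V, hV, hyV, hVO⟩ := exists_isAffineOpen_mem_and_subset (x := y₀) (U := ⟨O, hO⟩) hyO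
  let j : Spec (CommRingCat.of Γ(Y, V)) ⟶ Y := hV.fromSpec
  haveI : IsOpenImmersion j := inferInstanceAs (IsOpenImmersion hV.fromSpec)
  obtain ⟨k, X₀, f₀, q, h1, h2, h3, h4, h5, sq⟩ := exists_qf_model f j
  haveI := h1; haveI := h2; haveI := h3; haveI := h4; haveI := h5
  let D := H8Lim.fgSpecDiagram Γ(Y, V)
  haveI hNoe : ∀ i, IsLocallyNoetherian (D.obj i) := fun i =>
    inferInstanceAs (IsLocallyNoetherian (Spec (CommRingCat.of (H8Lim.fgSub Γ(Y, V) i.unop))))
  haveI : CompactSpace (D.obj k) :=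
    inferInstanceAs (CompactSpace (Spec (CommRingCat.of (H8Lim.fgSub Γ(Y, V) k.unop))))
  haveI : QuasiSeparatedSpace (D.obj k) :=
    inferInstanceAs (QuasiSeparatedSpace (Spec (CommRingCat.of (H8Lim.fgSub Γ(Y, V) k.unop))))
  let σ := (H8Lim.fgSpecCone Γ(Y, V)).π.app k
  let n := MoreMor.nGeomConnComp f y₀
  have hn : ∀ t, MoreMor.nGeomConnComp f₀ (σ t) = n := fun t =>
    ((FlatMorGeomIrr.counts_baseChange f₀ (pullback.snd f j) q σ sq t).2.symm.trans
      (FlatMorGeomIrr.counts_baseChange f (pullback.snd f j) _ j (IsPullback.of_hasPullback f j) t).2).trans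
      (hNc _ (hON (hVO (hV.range_fromSpec.le ⟨t, rfl⟩))))
  have hE : Topology.IsConstructible {b : D.obj k | MoreMor.nGeomConnComp f₀ b = n} :=
    (FlatMorGeomIrr.isLocallyConstructible_counts f₀ n).2.isConstructible
  obtain ⟨l, φ, hl⟩ := H8Lim.exists_preimage_subset (D := D) (c := H8Lim.fgSpecCone Γ(Y, V))
    (H8Lim.isLimitFgSpecCone _) (Z := Set.univ) Topology.IsConstructible.univ hE (fun t _ => hn t)
  let f₁ := pullback.snd f₀ (D.map φ)
  haveI : LocallyOfFinitePresentation f₁ := MorphismProperty.pullback_snd (P := @LocallyOfFinitePresentation) _ _ h1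
  haveI : QuasiCompact f₁ := MorphismProperty.pullback_snd (P := @QuasiCompact) _ _ h2
  haveI : IsSeparated f₁ := MorphismProperty.pullback_snd (P := @IsSeparated) _ _ h3
  haveI : Flat f₁ := MorphismProperty.pullback_snd (P := @Flat) _ _ h4
  haveI : LocallyQuasiFinite f₁ := MorphismProperty.pullback_snd (P := @LocallyQuasiFinite) _ _ h5
  have hconst : ∀ b, MoreMor.nGeomConnComp f₁ b = n := fun b => by
    rw [(FlatMorGeomIrr.counts_baseChange f₀ f₁ _ (D.map φ) (IsPullback.of_hasPullback _ _) b).2]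
    exact hl (Set.mem_univ _)
  choose U hU hUp using fun b => isProper_nhd_of_count_eq f₁ b
    (fun x _ => DvrCrit.isUnivOpenAt_of_universallyOpen f₁ x) (fun b' _ => (hconst b').trans (hconst b).symm)
  have hf₁ : IsProper f₁ := IsZariskiLocalAtTarget.of_iSup_eq_top (P := @IsProper) U
    (top_le_iff.1 fun b _ => Opens.mem_iSup.2 ⟨b, hU b⟩) hUp
  have hP : IsProper (pullback.snd f j) := MorphismProperty.of_isPullback (P := @IsProper)
    (H8Lim.isPullback_later (D := D) (c := H8Lim.fgSpecCone Γ(Y, V)) sq φ (H8Lim.eq_later sq φ)) hf₁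
  refine ⟨j.opensRange, hV.range_fromSpec.ge hyV, ?_⟩
  exact (MorphismProperty.arrow_mk_iso_iff @IsProper (morphismRestrictOpensRange f j)).2 hP

end Groth.Agent.EGA43.ConnCount
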