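import Groth.Agent.EGA43.ConnCount.QuasiFinite
import Groth.Agent.EGA43.ConnCount.Disjoint

/-!
# Realizing numbers of geometric points over a discrete valuation ring (EGA IV 15.5.1)
-/

set_option autoImplicit false
set_option backward.isDefEq.respectTransparency false
set_option linter.style.haveILetI false

universe u

open CategoryTheory CategoryTheory.Limits AlgebraicGeometry TopologicalSpace Opposite IsLocalRing
open scoped TensorProduct

namespace Groth.Agent.EGA43.ConnCount

open Groth.Agent

/-- A finite separable extension separating the geometric points of a finite algebra. -/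
theorem exists_splitting_field {K Ω R : Type u} [Field K] [Field Ω] [IsAlgClosed Ω] [Algebra K Ω]
    [CommRing R] [Algebra K R] [Module.Finite K R] :
    ∃ (L : Type u) (_ : Field L) (_ : Algebra K L) (_ : Module.Finite K L) (_ : Algebra.IsSeparable K L)
      (j : L →ₐ[K] Ω),
      Function.Injective (PrimeSpectrum.comap (Algebra.TensorProduct.map j (AlgHom.id K R)).toRingHom) := by
  classical
  obtain ⟨B, hB⟩ := Module.Finite.fg_top (R := K) (M := R)
  let Sgen : Set Ω := ⋃ χ : R →ₐ[K] Ω, χ '' (B : Set R)
  have hSfin : Sgen.Finite := Set.finite_iUnion fun χ => B.finite_toSet.image _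
  have hSint : ∀ a ∈ Sgen, IsIntegral K a := by
    intro a ha
    obtain ⟨χ, r, -, rfl⟩ := Set.mem_iUnion.1 ha
    exact (Algebra.IsIntegral.isIntegral r).map χ
  let L₁ := IntermediateField.adjoin K Sgen
  haveI := hSfin.to_subtype
  haveI : FiniteDimensional K L₁ := IntermediateField.finiteDimensional_adjoin hSint
  have hmem : ∀ (χ : R →ₐ[K] Ω) (r : R), χ r ∈ L₁ := by
    intro χ r
    have hr : r ∈ Submodule.span K (B : Set R) := hB ▸ Submodule.mem_top
    induction hr using Submodule.span_induction with
    | mem r hr => exact IntermediateField.subset_adjoin K Sgen (Set.mem_iUnion.2 ⟨χ, r, hr, rfl⟩)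
    | zero => rw [map_zero]; exact zero_mem _
    | add a b _ _ ha hb => rw [map_add]; exact add_mem ha hb
    | smul c a _ ha => rw [map_smul]; exact IntermediateField.smul_mem L₁ ha
  let L₀ := separableClosure K L₁
  let j : L₀ →ₐ[K] Ω := L₁.val.comp L₀.val
  refine ⟨L₀, inferInstance, inferInstance, inferInstance, inferInstance, j, ?_⟩
  intro p q hpq
  -- the evaluations at the two points
  have hev : ∀ p : PrimeSpectrum (Ω ⊗[K] R), ∃ e : Ω ⊗[K] R →ₐ[Ω] Ω, RingHom.ker e.toRingHom = p.asIdeal := by
    intro p
    haveI : IsArtinianRing (Ω ⊗[K] R) := IsArtinianRing.of_finite Ω _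
    haveI : p.asIdeal.IsMaximal := IsArtinianRing.isMaximal_of_isPrime p.asIdeal
    letI : Field ((Ω ⊗[K] R) ⧸ p.asIdeal) := Ideal.Quotient.field p.asIdeal
    haveI : Module.Finite Ω ((Ω ⊗[K] R) ⧸ p.asIdeal) :=
      Module.Finite.of_surjective (Ideal.Quotient.mkₐ Ω p.asIdeal).toLinearMap Ideal.Quotient.mk_surjective
    let e' : Ω ≃ₐ[Ω] (Ω ⊗[K] R) ⧸ p.asIdeal :=
      AlgEquiv.ofBijective (Algebra.ofId Ω _) (IsAlgClosed.algebraMap_bijective_of_isIntegral (k := Ω))
    refine ⟨e'.symm.toAlgHom.comp (Ideal.Quotient.mkₐ Ω p.asIdeal), ?_⟩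
    ext z
    show e'.symm (Ideal.Quotient.mk p.asIdeal z) = 0 ↔ z ∈ p.asIdeal
    rw [map_eq_zero_iff _ e'.symm.injective, Ideal.Quotient.eq_zero_iff_mem]
  obtain ⟨ep, hep⟩ := hev p
  obtain ⟨eq, heq⟩ := hev q
  let ι : R →ₐ[K] Ω ⊗[K] R := Algebra.TensorProduct.includeRight
  have hR : ∀ r : R, ep (ι r) = eq (ι r) := by
    intro r
    let a : L₁ := ⟨ep (ι r), hmem ((ep.restrictScalars K).comp ι) r⟩
    obtain ⟨n, b, hb⟩ := IsPurelyInseparable.pow_mem L₀ (ringExpChar L₀) a
    haveI : ExpChar L₀ (ringExpChar L₀) := inferInstance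
    haveI : ExpChar Ω (ringExpChar L₀) := expChar_of_injective_ringHom j.toRingHom.injective _
    let w : L₀ ⊗[K] R := 1 ⊗ₜ (r ^ ringExpChar L₀ ^ n) - b ⊗ₜ 1
    let θ := Algebra.TensorProduct.map j (AlgHom.id K R)
    have hw : ∀ e : Ω ⊗[K] R →ₐ[Ω] Ω, e (θ w) = e (ι r) ^ ringExpChar L₀ ^ n - j b := by
      intro e
      have h1 : θ w = (ι r) ^ ringExpChar L₀ ^ n - algebraMap Ω (Ω ⊗[K] R) (j b) := by
        simp only [w, θ, ι, map_sub, Algebra.TensorProduct.map_tmul, Algebra.TensorProduct.includeRight_apply,
          Algebra.TensorProduct.tmul_pow, one_pow, map_one, AlgHom.id_apply, Algebra.TensorProduct.algebraMap_apply]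
        rfl
      rw [h1, map_sub, map_pow, AlgHom.commutes]
      rfl
    have hjb : j b = ep (ι r) ^ ringExpChar L₀ ^ n := by
      show ((algebraMap L₀ L₁ b : L₁) : Ω) = _
      rw [hb]
      rfl
    have hwp : θ w ∈ p.asIdeal := by
      rw [← hep]
      show ep (θ w) = 0
      rw [hw, hjb, sub_self]
    have hwq : θ w ∈ q.asIdeal := (congrArg (fun t : PrimeSpectrum (L₀ ⊗[K] R) => w ∈ t.asIdeal) hpq).mp hwp
    rw [← heq] at hwq
    have h2 : eq (θ w) = 0 := hwq
    rw [hw, hjb, sub_eq_zero] at h2
    exact (iterateFrobenius_inj Ω (ringExpChar L₀) n) (by simpa only [iterateFrobenius_def] using h2.symm)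
  have hee : ep = eq := by
    refine Algebra.TensorProduct.ext (by ext) ?_
    exact AlgHom.ext hR
  refine PrimeSpectrum.ext ?_
  rw [← hep, ← heq, hee]

/-- A finite separable extension over which all geometric points of a quasi-finite scheme over a field are rational. -/
theorem exists_finite_splitting {K Ω : Type u} [Field K] [Field Ω] [IsAlgClosed Ω] [Algebra K Ω]
    {P : Scheme.{u}} (f : P ⟶ Spec (CommRingCat.of K)) [LocallyQuasiFinite f] [QuasiCompact f] :
    ∃ (L : Type u) (_ : Field L) (_ : Algebra K L) (_ : Module.Finite K L) (_ : Algebra.IsSeparable K L),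
      ENat.card ↥(pullback f (H8Lim.algSpec K L)) = ENat.card ↥(pullback f (H8Lim.algSpec K Ω)) := by
  haveI : IsFinite f := IsFinite.of_locallyQuasiFinite f
  haveI : IsAffine P := isAffine_of_isAffineHom f
  obtain ⟨φ, hφ⟩ := Spec.map_surjective (P.isoSpec.inv ≫ f)
  letI : Algebra K Γ(P, ⊤) := φ.hom.toAlgebra
  have hfin : IsFinite (Spec.map φ) := hφ ▸ inferInstance
  haveI : Module.Finite K Γ(P, ⊤) := RingHom.finite_algebraMap.1 ((IsFinite.SpecMap_iff φ).1 hfin)
  obtain ⟨L, _, _, _, _, j, hj⟩ := exists_splitting_field (K := K) (Ω := Ω) (R := Γ(P, ⊤))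
  refine ⟨L, inferInstance, inferInstance, inferInstance, inferInstance, le_antisymm ?_ ?_⟩
  · -- the projection is surjective
    let l : Spec (CommRingCat.of Ω) ⟶ Spec (CommRingCat.of L) := Spec.map (CommRingCat.ofHom j.toRingHom)
    haveI : Surjective l := ProperDvr.surjective_specMap_field _
    have hl : l ≫ H8Lim.algSpec K L = H8Lim.algSpec K Ω := by
      simp only [l, H8Lim.algSpec, ← Spec.map_comp, ← CommRingCat.ofHom_comp]
      congr 2
      exact j.comp_algebraMap
    let m : pullback f (H8Lim.algSpec K Ω) ⟶ pullback f (H8Lim.algSpec K L) :=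
      pullback.lift (pullback.fst _ _) (pullback.snd _ _ ≫ l) (by rw [Category.assoc, hl]; exact pullback.condition)
    have hm : IsPullback m (pullback.snd f (H8Lim.algSpec K Ω)) (pullback.snd f (H8Lim.algSpec K L)) l := by
      refine IsPullback.of_right ?_ (pullback.lift_snd _ _ _) (IsPullback.of_hasPullback f _)
      rw [pullback.lift_fst, hl]
      exact IsPullback.of_hasPullback f _
    haveI : Surjective m := MorphismProperty.of_isPullback (P := @Surjective) hm.flip inferInstance
    exact ENat.card_le_card_of_injective (Function.injective_surjInv m.surjective)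
  · have hiso : ∀ (M : Type u) [Field M] [Algebra K M],
        Nonempty (↥(pullback f (H8Lim.algSpec K M)) ≃ PrimeSpectrum (M ⊗[K] Γ(P, ⊤))) := by
      intro M _ _
      have sq : IsPullback (Spec.map (CommRingCat.ofHom
            (Algebra.TensorProduct.includeRight (R := K) (A := M) (B := Γ(P, ⊤))).toRingHom))
          (Spec.map (CommRingCat.ofHom (algebraMap M (M ⊗[K] Γ(P, ⊤))))) (Spec.map φ) (H8Lim.algSpec K M) :=
        (isPullback_SpecMap_of_isPushout _ _ _ _ (CommRingCat.isPushout_tensorProduct K M Γ(P, ⊤))).flip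
      rw [hφ] at sq
      have sq' : IsPullback (_ ≫ P.isoSpec.inv) _ f (H8Lim.algSpec K M) :=
        sq.paste_horiz (IsPullback.of_horiz_isIso (fst := P.isoSpec.inv) (snd := P.isoSpec.inv ≫ f) (f := f)
          (g := 𝟙 _) ⟨by rw [Category.comp_id]⟩) |> fun h => by rwa [Category.comp_id] at h
      exact ⟨sq'.isoPullback.inv.homeomorph.toEquiv⟩
    obtain ⟨eL⟩ := hiso L
    obtain ⟨eΩ⟩ := hiso Ω
    rw [ENat.card_congr eL, ENat.card_congr eΩ]
    exact ENat.card_le_card_of_injective hj

variable {X Y : Scheme.{u}}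

theorem card_points_eq_count (f : X ⟶ Y) [LocallyQuasiFinite f] {y : Y} {Ω : Type u} [Field Ω] [IsSepClosed Ω]
    (s : Spec (CommRingCat.of Ω) ⟶ Y) (z : Spec (CommRingCat.of Ω)) (hs : s z = y) :
    ENat.card ↥(pullback f s) = MoreMor.nGeomConnComp f y := by
  rw [count_eq_encard_univ f s z hs, Set.encard_univ]

theorem exists_realizing [IsLocallyNoetherian Y] (f : X ⟶ Y) [IsSeparated f] [LocallyQuasiFinite f]
    [LocallyOfFiniteType f] [QuasiCompact f] (y y' : Y) (hne : y' ≠ y) (hgen : y' ⤳ y) :
    ∃ (A : Type u) (_ : CommRing A) (_ : IsDomain A) (_ : IsDiscreteValuationRing A) (g : Spec (CommRingCat.of A) ⟶ Y),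
      g.base (IsLocalRing.closedPoint A) = y ∧ g.base (genericPoint (Spec (CommRingCat.of A))) = y' ∧
      MoreMor.nGeomConnComp f y = ENat.card ↥((pullback.snd f g).fiber (IsLocalRing.closedPoint A)) ∧
      MoreMor.nGeomConnComp f y' = ENat.card ↥((pullback.snd f g).fiber (genericPoint (Spec (CommRingCat.of A)))) := by
  obtain ⟨C, _, _, _, _, _, g₀, hgs, hgη⟩ := exists_completeDvr_of_specializes hgen hne
  let K := FractionRing C
  let sK := Spec.map (CommRingCat.ofHom (algebraMap C K))
  let fK := pullback.snd f (sK ≫ g₀)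
  obtain ⟨L, _, _, _, _, hL⟩ := exists_finite_splitting (Ω := AlgebraicClosure K) fK
  letI : Algebra C L := ((algebraMap K L).comp (algebraMap C K)).toAlgebra
  haveI : IsScalarTower C K L := IsScalarTower.of_algebraMap_eq fun _ => rfl
  let A' := integralClosure C L
  haveI : Module.Finite C A' := IsIntegralClosure.finite C K L A'
  haveI : IsFractionRing A' L := IsIntegralClosure.isFractionRing_of_finite_extension C K L A'
  haveI : IsLocalRing A' := CAlgMisc2.isLocalRing_of_finite_domain_complete (A := C)
  have hinj : Function.Injective (algebraMap C A') := by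
    intro a b hab
    have h := congrArg Subtype.val hab
    simp only [Subalgebra.coe_algebraMap] at h
    rw [IsScalarTower.algebraMap_apply C K L, IsScalarTower.algebraMap_apply C K L] at h
    exact IsFractionRing.injective C K ((algebraMap K L).injective h)
  have hnf : ¬ IsField A' := fun hf => IsDiscreteValuationRing.not_isField C
    (isField_of_isIntegral_of_isField hinj hf)
  haveI : IsPrincipalIdealRing A' := IsPrincipalIdealRing.of_finite_maximals
    ((Set.finite_singleton (maximalIdeal A')).subset fun I hI => IsLocalRing.eq_maximalIdeal hI)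
  haveI : IsDiscreteValuationRing A' :=
    { not_a_field' := fun h => hnf (isField_iff_maximalIdeal_eq.2 h) }
  haveI : IsLocalHom (algebraMap C A') := RingHom.IsIntegral.isLocalHom (algebraMap_isIntegral_iff.2 inferInstance) hinj
  haveI : IsAlgClosed (ResidueField A') := IsAlgClosed.of_ringEquiv (ResidueField C) (ResidueField A')
    (RingEquiv.ofBijective _ (IsAlgClosed.algebraMap_bijective_of_isIntegral (k := ResidueField C) (K := ResidueField A')))
  let a := Spec.map (CommRingCat.ofHom (algebraMap C A'))
  let g := a ≫ g₀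
  have hgc : g (closedPoint A') = y := by
    show g₀ (a (closedPoint A')) = y
    rw [show a (closedPoint A') = closedPoint C from IsLocalRing.comap_closedPoint (algebraMap C A')]
    exact hgs
  have hgn : g (genericPoint (Spec (CommRingCat.of A'))) = y' := by
    show g₀ (a (genericPoint (Spec (CommRingCat.of A')))) = y'
    rw [show a (genericPoint (Spec (CommRingCat.of A'))) = genericPoint (Spec (CommRingCat.of C)) by
      rw [ProperDvr.genericPoint_spec_eq, ProperDvr.genericPoint_spec_eq]
      exact PrimeSpectrum.ext ((RingHom.injective_iff_ker_eq_bot _).1 hinj)]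
    exact hgη
  refine ⟨A', inferInstance, inferInstance, inferInstance, g, hgc, hgn, ?_, ?_⟩
  · haveI : IsClosedImmersion (sres A') := IsClosedImmersion.spec_of_surjective _ IsLocalRing.residue_surjective
    obtain ⟨e⟩ := exists_iso_fiber (pullback.snd f g) (closedPoint A') (sres A')
      ((ProperDvr.range_specMap_residue A').le ⟨_, rfl⟩)
    rw [← ENat.card_congr e.hom.homeomorph.toEquiv,
      card_points_eq_count (pullback.snd f g) (sres A') (closedPoint (ResidueField A'))
        ((ProperDvr.range_specMap_residue A').le ⟨_, rfl⟩),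
      (FlatMorGeomIrr.counts_baseChange f (pullback.snd f g) _ g (IsPullback.of_hasPullback f g) _).2, hgc]
  · let l := Spec.map (CommRingCat.ofHom (algebraMap A' L))
    have hl : l ≫ g = H8Lim.algSpec K L ≫ sK ≫ g₀ := by
      simp only [l, g, a, sK, H8Lim.algSpec, ← Category.assoc, ← Spec.map_comp, ← CommRingCat.ofHom_comp,
        ← IsScalarTower.algebraMap_eq]
    haveI : IsPreimmersion l := IsPreimmersion.of_isLocalization (nonZeroDivisors A')
    have hlη : ∀ t, l t = genericPoint (Spec (CommRingCat.of A')) := fun t =>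
      ProperDvr.specMap_frac_apply A' L t
    let η' := genericPoint (Spec (CommRingCat.of A'))
    have hr : Set.range (pullback.fst (pullback.snd f g) l) = Set.range ((pullback.snd f g).fiberι η') := by
      rw [Scheme.Pullback.range_fst, Scheme.Hom.range_fiberι,
        show Set.range l = {η'} from Set.ext fun p => ⟨fun ⟨t, ht⟩ => ht ▸ hlη t,
          fun hp => ⟨closedPoint L, (hlη _).trans hp.symm⟩⟩]
    have hcard : ENat.card ↥(pullback (pullback.snd f g) l) = ENat.card ↥((pullback.snd f g).fiber η') := by
      refine (ENat.card_congr ((Equiv.ofInjective _ (pullback.fst (pullback.snd f g) l).isEmbedding.injective).trans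
        ((Equiv.setCongr hr).trans (Equiv.ofInjective _ ((pullback.snd f g).fiberι η').isEmbedding.injective).symm)))
    rw [← hcard]
    let p := (IsPullback.of_hasPullback (pullback.snd f g) l).paste_horiz (IsPullback.of_hasPullback f g)
    let pL := (IsPullback.of_hasPullback fK (H8Lim.algSpec K L)).paste_horiz (IsPullback.of_hasPullback f (sK ≫ g₀))
    let pΩ := (IsPullback.of_hasPullback fK (H8Lim.algSpec K (AlgebraicClosure K))).paste_horiz (IsPullback.of_hasPullback f (sK ≫ g₀))
    rw [ENat.card_congr p.isoPullback.hom.homeomorph.toEquiv, hl,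
      ← ENat.card_congr pL.isoPullback.hom.homeomorph.toEquiv, hL,
      ENat.card_congr pΩ.isoPullback.hom.homeomorph.toEquiv,
      card_points_eq_count (Ω := AlgebraicClosure K) f _ (closedPoint (AlgebraicClosure K)) (y := y') ?_]
    show g₀ (sK (H8Lim.algSpec K (AlgebraicClosure K) (closedPoint (AlgebraicClosure K)))) = y'
    rw [show sK (H8Lim.algSpec K (AlgebraicClosure K) (closedPoint (AlgebraicClosure K))) = genericPoint (Spec (CommRingCat.of C)) from
      ProperDvr.specMap_frac_apply C K _]
    exact hgη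

end Groth.Agent.EGA43.ConnCount
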