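import Groth.Agent.EGA43.SectionComp.FPTransfer
import Groth.Agent.EGA43.SectionComp.FPModel
import Groth.Agent.EGA43.DvrCrit.OpenFlat
import Groth.Agent.VarietyLib.AffineNhd
import Groth.Agent.S3408
import Groth.Agent.S2549

/-!
# Reducedness of flat morphisms with geometrically reduced fibres over any reduced base (EGA IV 11.3.13)
-/

set_option autoImplicit false
set_option backward.isDefEq.respectTransparency false
set_option linter.style.haveILetI false

universe u

open CategoryTheory CategoryTheory.Limits AlgebraicGeometry TopologicalSpace Opposite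
open scoped TensorProduct

namespace Groth.Agent.EGA43.ConnCount

open Groth.Agent

theorem isReduced_tensor_of_fg {A₀ R B : Type u} [CommRing A₀] [CommRing R] [CommRing B] [Algebra A₀ R]
    [Algebra A₀ B] [Module.Flat A₀ B]
    (h : ∀ S : Subalgebra A₀ R, S.FG → _root_.IsReduced (S ⊗[A₀] B)) : _root_.IsReduced (R ⊗[A₀] B) := by
  classical
  have hex : ∀ a : R ⊗[A₀] B, ∃ S : Subalgebra A₀ R, S.FG ∧
      a ∈ Set.range (Algebra.TensorProduct.map S.val (AlgHom.id A₀ B)) := by
    intro a
    induction a using TensorProduct.induction_on with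
    | zero => exact ⟨⊥, Subalgebra.fg_bot, 0, map_zero _⟩
    | tmul r b =>
      exact ⟨Algebra.adjoin A₀ {r}, ⟨{r}, by simp⟩, ⟨r, Algebra.subset_adjoin rfl⟩ ⊗ₜ b, by simp⟩
    | add a b ha hb =>
      obtain ⟨S, hS, a', rfl⟩ := ha
      obtain ⟨T, hT, b', rfl⟩ := hb
      refine ⟨S ⊔ T, hS.sup hT,
        Algebra.TensorProduct.map (Subalgebra.inclusion (le_sup_left : S ≤ S ⊔ T)) (AlgHom.id A₀ B) a' +
          Algebra.TensorProduct.map (Subalgebra.inclusion (le_sup_right : T ≤ S ⊔ T)) (AlgHom.id A₀ B) b', ?_⟩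
      rw [map_add, ← AlgHom.comp_apply, ← AlgHom.comp_apply, ← Algebra.TensorProduct.map_comp,
        ← Algebra.TensorProduct.map_comp]
      rfl
  refine ⟨fun a ⟨n, hn⟩ => ?_⟩
  obtain ⟨S, hS, a', rfl⟩ := hex a
  have hinj : Function.Injective (Algebra.TensorProduct.map S.val (AlgHom.id A₀ B)) :=
    Module.Flat.rTensor_preserves_injective_linearMap (M := B) S.val.toLinearMap Subtype.val_injective
  haveI := h S hS
  rw [← map_pow] at hn
  rw [IsNilpotent.eq_zero ⟨n, hinj (hn.trans (map_zero _).symm)⟩, map_zero]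

theorem isGeomReducedAt_chart {A₀ B : Type u} [CommRing A₀] [CommRing B] (φ : A₀ →+* B)
    {X₀ : Scheme.{u}} (f₀ : X₀ ⟶ Spec (CommRingCat.of A₀)) (w : Spec (CommRingCat.of B) ⟶ X₀) [IsOpenImmersion w]
    (hw : w ≫ f₀ = Spec.map (CommRingCat.ofHom φ)) (t : ↥(Spec (CommRingCat.of B)))
    (h : FBase.IsGeomReducedAt (f₀.fiberToSpecResidueField (f₀ (w t))) (f₀.asFiber (w t))) :
    FBase.IsGeomReducedAt ((Spec.map (CommRingCat.ofHom φ)).fiberToSpecResidueField (Spec.map (CommRingCat.ofHom φ) t))
      ((Spec.map (CommRingCat.ofHom φ)).asFiber t) :=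
  SectionComp.isGeomReducedAt_congr hw t
    (SectionComp.geomAt_fiber_openImmersion (Pr := fun R _ => _root_.IsReduced R) SectionComp.reduced_ringEquiv w f₀ t h)

theorem isReduced_tensor {A₀ B R : Type u} [CommRing A₀] [IsNoetherianRing A₀] [CommRing B] [CommRing R]
    [Algebra A₀ B] [Algebra A₀ R] [Module.Flat A₀ B] [Algebra.FinitePresentation A₀ B] [_root_.IsReduced R]
    (hred : ∀ t : ↥(Spec (CommRingCat.of B)),
      FBase.IsGeomReducedAt ((Spec.map (CommRingCat.ofHom (algebraMap A₀ B))).fiberToSpecResidueField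
        (Spec.map (CommRingCat.ofHom (algebraMap A₀ B)) t))
        ((Spec.map (CommRingCat.ofHom (algebraMap A₀ B))).asFiber t)) :
    _root_.IsReduced (R ⊗[A₀] B) := by
  refine isReduced_tensor_of_fg fun S hS => ?_
  haveI : Algebra.FiniteType A₀ S := S.fg_iff_finiteType.1 hS
  haveI : IsNoetherianRing S := Algebra.FiniteType.isNoetherianRing A₀ S
  haveI : _root_.IsReduced S := isReduced_of_injective S.val Subtype.val_injective
  let T := CommRingCat.of (S ⊗[A₀] B)
  let p : Spec T ⟶ Spec (CommRingCat.of B) :=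
    Spec.map (CommRingCat.ofHom (Algebra.TensorProduct.includeRight (R := A₀) (A := S) (B := B)).toRingHom)
  let q : Spec T ⟶ Spec (CommRingCat.of S) :=
    Spec.map (CommRingCat.ofHom (algebraMap S (S ⊗[A₀] B)))
  have sq : IsPullback p q (Spec.map (CommRingCat.ofHom (algebraMap A₀ B)))
      (Spec.map (CommRingCat.ofHom (algebraMap A₀ S))) :=
    (isPullback_SpecMap_of_isPushout _ _ _ _ (CommRingCat.isPushout_tensorProduct A₀ S B)).flip
  haveI : Flat (Spec.map (CommRingCat.ofHom (algebraMap A₀ B))) :=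
    (HasRingHomProperty.Spec_iff (P := @Flat)).2 (RingHom.flat_algebraMap_iff.2 inferInstance)
  haveI : LocallyOfFinitePresentation (Spec.map (CommRingCat.ofHom (algebraMap A₀ B))) :=
    (HasRingHomProperty.Spec_iff (P := @LocallyOfFinitePresentation)).2
      (RingHom.finitePresentation_algebraMap.2 inferInstance)
  haveI : Flat q := MorphismProperty.of_isPullback (P := @Flat) sq inferInstance
  haveI : LocallyOfFinitePresentation q := MorphismProperty.of_isPullback (P := @LocallyOfFinitePresentation) sq inferInstance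
  haveI : IsLocallyNoetherian (Spec (CommRingCat.of S)) := inferInstance
  haveI : AlgebraicGeometry.IsReduced (Spec (CommRingCat.of S)) := inferInstance
  haveI : AlgebraicGeometry.IsReduced (Spec T) := by
    haveI hst : ∀ t : ↥(Spec T), _root_.IsReduced ((Spec T).presheaf.stalk t) := fun t => by
      obtain ⟨U, htU, -, hU⟩ := Groth.Agent.S3408.result q t
        (fun z _ _ => DvrCrit.isUnivOpenAt_of_universallyOpen q _)
        ((SectionComp.isGeomReducedAt_isPullback_iff _ _ sq t).2 (hred (p t))) inferInstance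
      haveI := hU
      exact isReduced_of_injective (asIso (U.ι.stalkMap ⟨t, htU⟩)).commRingCatIsoToRingEquiv.toRingHom
        (asIso (U.ι.stalkMap ⟨t, htU⟩)).commRingCatIsoToRingEquiv.injective
    exact isReduced_of_isReduced_stalk _
  exact (affine_isReduced_iff T).1 inferInstance

/-- EGA IV 11.3.13 (ii). -/
theorem isReducedAt_of_flat {X Y : Scheme.{u}} (f : X ⟶ Y) [Flat f] [LocallyOfFinitePresentation f] (x : X)
    (hy : _root_.IsReduced (Y.presheaf.stalk (f x)))
    (hx : FBase.IsGeomReducedAt (f.fiberToSpecResidueField (f x)) (f.asFiber x)) :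
    _root_.IsReduced (X.presheaf.stalk x) := by
  let R := Y.presheaf.stalk (f x)
  let j : Spec (CommRingCat.of R) ⟶ Y := Y.fromSpecStalk (f x)
  obtain ⟨x', hx', -⟩ := Scheme.Pullback.exists_preimage_pullback (f := f) (g := j) x (IsLocalRing.closedPoint R)
    (Scheme.fromSpecStalk_closedPoint).symm
  haveI : Flat j := VarietyLib.flat_fromSpecStalk' (f x)
  haveI : Flat (pullback.fst f j) := MorphismProperty.pullback_fst (P := @Flat) _ _ inferInstance
  suffices h : _root_.IsReduced ((pullback f j).presheaf.stalk x') by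
    have key : ∀ x₁, pullback.fst f j x' = x₁ → _root_.IsReduced (X.presheaf.stalk x₁) := by
      rintro x₁ rfl
      haveI := h
      letI := ((pullback.fst f j).stalkMap x').hom.toAlgebra
      haveI : Module.Flat (X.presheaf.stalk (pullback.fst f j x')) ((pullback f j).presheaf.stalk x') :=
        Flat.stalkMap (pullback.fst f j) x'
      haveI : IsLocalHom (algebraMap (X.presheaf.stalk (pullback.fst f j x')) ((pullback f j).presheaf.stalk x')) :=
        inferInstanceAs <| IsLocalHom ((pullback.fst f j).stalkMap x').hom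
      haveI : Module.FaithfullyFlat (X.presheaf.stalk (pullback.fst f j x')) ((pullback f j).presheaf.stalk x') :=
        Module.FaithfullyFlat.of_flat_of_isLocalHom
      exact isReduced_of_injective (algebraMap (X.presheaf.stalk (pullback.fst f j x')) ((pullback f j).presheaf.stalk x'))
        (FaithfulSMul.algebraMap_injective _ _)
    exact key x hx'
  have hx'' : FBase.IsGeomReducedAt ((pullback.snd f j).fiberToSpecResidueField (pullback.snd f j x'))
      ((pullback.snd f j).asFiber x') := by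
    refine (SectionComp.isGeomReducedAt_isPullback_iff f j (IsPullback.of_hasPullback f j) x').2 ?_
    rw [hx']
    exact hx
  obtain ⟨U, hU, hxU, -⟩ := exists_isAffineOpen_mem_and_subset (x := x') (U := ⊤) trivial
  haveI : IsAffine U.toScheme := hU
  let g : U.toScheme ⟶ Spec (CommRingCat.of R) := U.ι ≫ pullback.snd f j
  haveI : LocallyOfFinitePresentation (pullback.snd f j) :=
    MorphismProperty.pullback_snd (P := @LocallyOfFinitePresentation) _ _ inferInstance
  haveI : Flat (pullback.snd f j) := MorphismProperty.pullback_snd (P := @Flat) _ _ inferInstance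
  have hxg : FBase.IsGeomReducedAt (g.fiberToSpecResidueField (g ⟨x', hxU⟩)) (g.asFiber ⟨x', hxU⟩) :=
    SectionComp.geomAt_fiber_openImmersion (Pr := fun R _ => _root_.IsReduced R) SectionComp.reduced_ringEquiv
      U.ι (pullback.snd f j) ⟨x', hxU⟩ hx''
  obtain ⟨k, X₀, f₀, q, h1, h2, h3, sq, hfl, -⟩ := SectionComp.exists_model_flatIf g
  haveI := h1
  haveI := hfl inferInstance
  haveI : IsNoetherianRing (H8Lim.fgSub R k.unop) := inferInstance
  let z₀ := q ⟨x', hxU⟩
  have hz₀ : FBase.IsGeomReducedAt (f₀.fiberToSpecResidueField (f₀ z₀)) (f₀.asFiber z₀) :=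
    (SectionComp.isGeomReducedAt_isPullback_iff f₀ _ sq ⟨x', hxU⟩).1 hxg
  obtain ⟨W, hW, hzW, hWG⟩ := exists_isAffineOpen_mem_and_subset (x := z₀)
    (U := ⟨_, Groth.Agent.S2549.result f₀⟩) hz₀
  let w : Spec (CommRingCat.of Γ(X₀, W)) ⟶ X₀ := hW.fromSpec
  haveI : IsOpenImmersion w := inferInstanceAs (IsOpenImmersion hW.fromSpec)
  obtain ⟨φ, hφ⟩ := Spec.map_surjective (w ≫ f₀)
  let A₀ := H8Lim.fgSub R k.unop
  letI : Algebra A₀ Γ(X₀, W) := φ.hom.toAlgebra
  have hflat : Flat (Spec.map φ) := hφ ▸ inferInstance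
  have hlfp : LocallyOfFinitePresentation (Spec.map φ) := hφ ▸ inferInstance
  haveI : Module.Flat A₀ Γ(X₀, W) := RingHom.flat_algebraMap_iff.1 ((HasRingHomProperty.Spec_iff (P := @Flat)).1 hflat)
  haveI : Algebra.FinitePresentation A₀ Γ(X₀, W) := RingHom.finitePresentation_algebraMap.1
    ((HasRingHomProperty.Spec_iff (P := @LocallyOfFinitePresentation)).1 hlfp)
  haveI : _root_.IsReduced R := hy
  haveI := isReduced_tensor (A₀ := A₀) (B := Γ(X₀, W)) (R := R) fun t =>
    isGeomReducedAt_chart φ.hom f₀ w hφ.symm t (hWG (hW.range_fromSpec.le ⟨t, rfl⟩))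
  -- the chart
  let T := CommRingCat.of (R ⊗[A₀] Γ(X₀, W))
  haveI : AlgebraicGeometry.IsReduced (Spec T) := inferInstance
  let a : Spec T ⟶ Spec (CommRingCat.of Γ(X₀, W)) :=
    Spec.map (CommRingCat.ofHom (Algebra.TensorProduct.includeRight (R := A₀) (A := R) (B := Γ(X₀, W))).toRingHom)
  let b : Spec T ⟶ Spec (CommRingCat.of R) := Spec.map (CommRingCat.ofHom (algebraMap R (R ⊗[A₀] Γ(X₀, W))))
  have sqT : IsPullback a b (w ≫ f₀) ((H8Lim.fgSpecCone R).π.app k) := by
    rw [← hφ]
    exact (isPullback_SpecMap_of_isPushout _ _ _ _ (CommRingCat.isPushout_tensorProduct A₀ R Γ(X₀, W))).flip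
  let ι : Spec T ⟶ U.toScheme := sq.lift (a ≫ w) b (by rw [Category.assoc]; exact sqT.w)
  have hι : IsPullback a ι w q := by
    refine IsPullback.of_bot ?_ (sq.lift_fst _ _ _).symm sq
    rw [sq.lift_snd]
    exact sqT
  haveI : IsOpenImmersion ι := MorphismProperty.of_isPullback (P := @IsOpenImmersion) hι inferInstance
  obtain ⟨v, -, hv⟩ := Scheme.exists_preimage_of_isPullback hι
    (hW.primeIdealOf ⟨z₀, hzW⟩) (⟨x', hxU⟩ : U.toScheme) (hW.fromSpec_primeIdealOf ⟨z₀, hzW⟩)
  have hred : ∀ z, ι v = z → _root_.IsReduced ((pullback f j).presheaf.stalk (U.ι z)) := by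
    rintro z rfl
    exact isReduced_of_injective (asIso ((ι ≫ U.ι).stalkMap v)).commRingCatIsoToRingEquiv.toRingHom
      (asIso ((ι ≫ U.ι).stalkMap v)).commRingCatIsoToRingEquiv.injective
  exact hred _ hv

end Groth.Agent.EGA43.ConnCount
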