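import Groth.Agent.EGA43.ConnCount.Dvr
import Groth.Agent.EGA43.DimFormula.Levels
import Groth.Agent.EGA43.UnivOpen.Dvr
import Groth.Agent.Stk19b.DvrImmersion
import Groth.Agent.FlatMorGeomIrr.Model

/-!
# Semicontinuity of the number of connected components of geometric fibres (EGA IV 15.5.7, 15.5.9)
-/

set_option autoImplicit false
set_option backward.isDefEq.respectTransparency false
set_option linter.style.haveILetI false

universe u

open CategoryTheory CategoryTheory.Limits AlgebraicGeometry TopologicalSpace Opposite IsLocalRing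

namespace Groth.Agent.EGA43.ConnCount

open Groth.Agent

variable {X Y : Scheme.{u}}

/-- A specialization is realized by a complete discrete valuation ring with algebraically closed residue field. -/
theorem exists_completeDvr_of_specializes [IsLocallyNoetherian Y] {η w : Y} (h : η ⤳ w) (hne : η ≠ w) :
    ∃ (C : Type u) (_ : CommRing C) (_ : IsDomain C) (_ : IsDiscreteValuationRing C)
      (_ : IsAdicComplete (maximalIdeal C) C) (_ : IsAlgClosed (ResidueField C))
      (g : Spec (CommRingCat.of C) ⟶ Y),
      g (closedPoint C) = w ∧ g (genericPoint (Spec (CommRingCat.of C))) = η := by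
  obtain ⟨A, _, _, _, ψ, hψs, hψη⟩ := Stk19b.exists_dvr_of_specializes h hne
  obtain ⟨C, _, _, _, _, _, φ, -, hφl, hφi, -⟩ := FiniteCrit.exists_completeDvr (residue A) IsLocalRing.ker_residue
  haveI := hφl
  refine ⟨C, inferInstance, inferInstance, inferInstance, inferInstance, inferInstance,
    Spec.map (CommRingCat.ofHom φ) ≫ ψ, ?_, ?_⟩
  · show ψ (Spec.map (CommRingCat.ofHom φ) (closedPoint C)) = w
    rw [show Spec.map (CommRingCat.ofHom φ) (closedPoint C) = closedPoint A from IsLocalRing.comap_closedPoint φ]
    exact hψs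
  · show ψ (Spec.map (CommRingCat.ofHom φ) (genericPoint (Spec (CommRingCat.of C)))) = η
    have hgn : Spec.map (CommRingCat.ofHom φ) (genericPoint (Spec (CommRingCat.of C))) =
        genericPoint (Spec (CommRingCat.of A)) := by
      rw [ProperDvr.genericPoint_spec_eq, ProperDvr.genericPoint_spec_eq]
      exact PrimeSpectrum.ext ((RingHom.injective_iff_ker_eq_bot φ).1 hφi)
    rw [hgn, ← ProperDvr.specMap_frac_apply A (FractionRing A) (closedPoint (FractionRing A))]
    exact hψη _

/-- EGA IV 15.5.9, at the level of generizations. -/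
theorem count_le_of_specializes [IsLocallyNoetherian Y] (f : X ⟶ Y) [IsProper f] {y y' : Y} (hsp : y' ⤳ y)
    (h : ∀ x, f x = y → EGA43.IsUnivOpenAt f x) :
    MoreMor.nGeomConnComp f y ≤ MoreMor.nGeomConnComp f y' := by
  by_cases hne : y' = y
  · rw [hne]
  obtain ⟨C, _, _, _, _, _, g, hgs, hgη⟩ := exists_completeDvr_of_specializes hsp hne
  have hc := fun t => (FlatMorGeomIrr.counts_baseChange f (pullback.snd f g) _ g (IsPullback.of_hasPullback f g) t).2
  rw [← hgs, ← hgη, ← hc, ← hc]
  refine count_closed_le_generic _ fun x hx => ?_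
  refine UnivOpen.exists_generization_of_isUnivOpenAt f (h _ ?_) g rfl (genericPoint_specializes _)
  rw [show f (pullback.fst f g x) = g (pullback.snd f g x) from
    congrArg (fun φ : pullback f g ⟶ Y => φ x) pullback.condition, hx, hgs]

/-- EGA IV 15.5.7, at the level of generizations. -/
theorem count_eq_of_specializes [IsLocallyNoetherian Y] (f : X ⟶ Y) [IsProper f] {y y' : Y} (hsp : y' ⤳ y)
    (h : ∀ x, f x = y → EGA43.IsUnivOpenAt f x) (hred : GeometricallyReduced (f.fiberToSpecResidueField y)) :
    MoreMor.nGeomConnComp f y' = MoreMor.nGeomConnComp f y := by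
  refine le_antisymm ?_ (count_le_of_specializes f hsp h)
  by_cases hne : y' = y
  · rw [hne]
  obtain ⟨C, _, _, _, _, _, g, hgs, hgη⟩ := exists_completeDvr_of_specializes hsp hne
  have hc := fun t => (FlatMorGeomIrr.counts_baseChange f (pullback.snd f g) _ g (IsPullback.of_hasPullback f g) t).2
  rw [← hgs, ← hgη, ← hc, ← hc]
  have hred' : IsReduced ((pullback.snd f g).fiber (closedPoint C)) := by
    have key : ∀ z, z = y → GeometricallyReduced (f.fiberToSpecResidueField z) := by rintro z rfl; exact hred
    haveI := key _ hgs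
    exact GeometricallyReduced.geometrically_isReduced (f := f.fiberToSpecResidueField (g (closedPoint C))) _ _ _
      (isPullback_fiberToSpecResidueField_of_isPullback (IsPullback.of_hasPullback f g) (closedPoint C))
  haveI : Flat (pullback.snd f g) := flat_of_reduced_closedFibre _ (fun x hx => h _ (by
    rw [show f (pullback.fst f g x) = g (pullback.snd f g x) from
      congrArg (fun φ : pullback f g ⟶ Y => φ x) pullback.condition, hx, hgs]) _ g x rfl) hred'
  exact count_generic_le_closed _ hred'

/-- The set where the count is at least `n` is locally constructible. -/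
theorem isLocallyConstructible_count_ge (f : X ⟶ Y) [LocallyOfFinitePresentation f] [QuasiCompact f]
    [QuasiSeparated f] (n : ℕ∞) : Topology.IsLocallyConstructible {z : Y | n ≤ MoreMor.nGeomConnComp f z} := by
  induction n using ENat.recTopCoe with
  | top =>
    simp_rw [top_le_iff]
    exact (FlatMorGeomIrr.isLocallyConstructible_counts f ⊤).2
  | coe N =>
    induction N with
    | zero =>
      convert Topology.IsLocallyConstructible.univ using 1
      exact Set.eq_univ_of_forall fun z => (show ((0 : ℕ) : ℕ∞) ≤ MoreMor.nGeomConnComp f z by simp)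
    | succ N ih =>
      have : {z : Y | ((N + 1 : ℕ) : ℕ∞) ≤ MoreMor.nGeomConnComp f z} =
          {z : Y | (N : ℕ∞) ≤ MoreMor.nGeomConnComp f z} ∩ {z : Y | MoreMor.nGeomConnComp f z = N}ᶜ := by
        ext z
        show ((N + 1 : ℕ) : ℕ∞) ≤ _ ↔ (N : ℕ∞) ≤ _ ∧ ¬ _ = _
        rw [Nat.cast_add, Nat.cast_one, ENat.add_one_le_iff (ENat.natCast_ne_top N), lt_iff_le_and_ne]
        exact and_congr_right fun _ => ne_comm
      rw [this]
      exact ih.inter (DimFormula.isLocallyConstructible_compl (FlatMorGeomIrr.isLocallyConstructible_counts f (N : ℕ∞)).2)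

/-- EGA IV 15.5.9. -/
theorem count_le_nhd [IsLocallyNoetherian Y] (f : X ⟶ Y) [IsProper f] (y : Y)
    (h : ∀ x, f x = y → EGA43.IsUnivOpenAt f x) :
    ∃ V ∈ nhds y, ∀ z ∈ V, MoreMor.nGeomConnComp f y ≤ MoreMor.nGeomConnComp f z := by
  haveI : LocallyOfFinitePresentation f := inferInstance
  exact ⟨_, DimFormula.mem_nhds_of_isLocallyConstructible (isLocallyConstructible_count_ge f _)
    (fun y' hy' => count_le_of_specializes f hy' h), fun z hz => hz⟩

/-- EGA IV 15.5.7. -/
theorem count_const_nhd [IsLocallyNoetherian Y] (f : X ⟶ Y) [IsProper f] (y : Y)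
    (h : ∀ x, f x = y → EGA43.IsUnivOpenAt f x) (hred : GeometricallyReduced (f.fiberToSpecResidueField y)) :
    ∃ V ∈ nhds y, ∀ z ∈ V, MoreMor.nGeomConnComp f z = MoreMor.nGeomConnComp f y := by
  haveI : LocallyOfFinitePresentation f := inferInstance
  exact ⟨_, DimFormula.mem_nhds_of_isLocallyConstructible (FlatMorGeomIrr.isLocallyConstructible_counts f _).2
    (fun y' hy' => count_eq_of_specializes f hy' h hred), fun z hz => hz⟩

end Groth.Agent.EGA43.ConnCount
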