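import Groth.Agent.EGA43.ConnCount.QuasiFinite
import Groth.Agent.Coherent.SteinFibre
import Groth.Agent.Coherent.GeomConnected
import Groth.Agent.EGA43.Chevalley.Main
import Groth.Agent.FlatMorWeight.Sums
import Groth.Agent.WeilLib.Geom

/-!
# Semicontinuity of the number of geometric connected components over a unibranch point (EGA IV 15.5.6)
-/

set_option autoImplicit false
set_option backward.isDefEq.respectTransparency false
set_option linter.style.haveILetI false

universe u

open CategoryTheory CategoryTheory.Limits AlgebraicGeometry TopologicalSpace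

namespace Groth.Agent.EGA43.ConnCount

open Groth.Agent

variable {X Y : Scheme.{u}}

/-- The Stein factorisation computes the number of geometric connected components. -/
theorem count_eq_count_normalization [IsLocallyNoetherian Y] (f : X ⟶ Y) [IsProper f] (y : Y) :
    MoreMor.nGeomConnComp f y = MoreMor.nGeomConnComp f.fromNormalization y := by
  haveI := Coherent.isFinite_fromNormalization_of_isProper f
  haveI := Coherent.isLocallyNoetherian_normalization f
  haveI := Coherent.isProper_toNormalization f
  haveI : GeometricallyConnected f.toNormalization :=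
    Coherent.geometricallyConnected_of_isIso_app _ (Coherent.isIso_toNormalization_app f)
  obtain ⟨Ω, _, _, s, z, hs⟩ := FlatMorGeomIrr.exists_algClosed_point y
  rw [← (FlatMorGeomIrr.counts_eq_geomFiber f s z hs).2,
    ← (FlatMorGeomIrr.counts_eq_geomFiber f.fromNormalization s z hs).2]
  let m : pullback f s ⟶ pullback f.fromNormalization s :=
    pullback.map _ _ _ _ f.toNormalization (𝟙 _) (𝟙 _) (by simp) (by simp)
  have sq : IsPullback (pullback.fst f s) m f.toNormalization (pullback.fst f.fromNormalization s) := by
    refine IsPullback.of_bot ?_ (pullback.lift_fst _ _ _).symm (IsPullback.of_hasPullback f.fromNormalization s)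
    rw [show m ≫ pullback.snd f.fromNormalization s = pullback.snd f s from
      (pullback.lift_snd _ _ _).trans (Category.comp_id _), f.toNormalization_fromNormalization]
    exact IsPullback.of_hasPullback f s
  haveI : GeometricallyConnected m := MorphismProperty.of_isPullback (P := @GeometricallyConnected) sq inferInstance
  haveI : DiscreteTopology ↥(pullback f.fromNormalization s) :=
    (IsLocallyArtinian.iff_isLocallyNoetherian_and_discreteTopology.1
      (IsLocallyArtinian.of_locallyQuasiFinite (pullback.snd f.fromNormalization s))).2
  exact ENat.card_congr (m.connectedComponentsHomeomorph fun _ _ => isOpen_discrete _).toEquiv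

/-- EGA IV 15.5.6. -/
theorem count_le_nhd_of_unibranch [IrreducibleSpace Y] [IsLocallyNoetherian Y] (f : X ⟶ Y) [IsProper f]
    (hdom : ∀ Z ∈ irreducibleComponents (X : Type u), closure (f.base '' Z) = Set.univ) (y₀ : Y)
    (hy : CAlg2.IsGeomUnibranch (Y.presheaf.stalk y₀)) :
    ∃ V ∈ nhds y₀, ∀ z ∈ V, MoreMor.nGeomConnComp f y₀ ≤ MoreMor.nGeomConnComp f z := by
  haveI := Coherent.isFinite_fromNormalization_of_isProper f
  simp only [count_eq_count_normalization f]
  refine qf_count_le_nhd f.fromNormalization y₀ fun w hw => ?_
  obtain ⟨ξ, hξ, W, hW, hgen⟩ := FlatMorWeight.exists_isMaximalPt_specializes w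
  obtain ⟨a, ha⟩ := Coherent.surjective_toNormalization f ξ
  obtain ⟨a', ha', Z, hZ, hgenZ⟩ := FlatMorWeight.exists_isMaximalPt_specializes a
  have hga' : f.toNormalization a' = ξ :=
    FlatMorWeight.isMaximalPt_of_isGenericPoint hW hgen _
      ((ha'.map f.toNormalization.continuous).trans (specializes_of_eq ha))
  have hη : FlatMorWeight.IsMaximalPt (f.fromNormalization ξ) := by
    rw [← hga', show f.fromNormalization (f.toNormalization a') = f a' from
      congrArg (fun φ : X ⟶ Y => φ a') f.toNormalization_fromNormalization]
    have h1 : IsGenericPoint (f a') (Set.univ : Set Y) := by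
      have := hgenZ.image f.continuous
      rwa [hdom Z hZ] at this
    exact fun v hv => (hv.antisymm (h1.specializes trivial)).eq
  refine Chevalley.isUnivOpenAt_of_trdegHom f.fromNormalization hξ hη (hw ▸ hy) fun x' _ _ _ => ?_
  rw [WeilLib.trdegHom_eq_zero_of_finite _ (FlatMorWeight.residueFieldMap_finite f.fromNormalization x')]
  exact Nat.zero_le _

end Groth.Agent.EGA43.ConnCount
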